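import Mathlib.RingTheory.Ideal.Maps
import Mathlib.Algebra.Module.Basic

/-!
# Extending scalars on power torsion modules
-/

set_option autoImplicit false

universe u

namespace CmplTorsLib

/-- A power torsion module over `R` is uniquely a module over `S` when `R` and `S` agree modulo all powers. -/
theorem exists_smul_of_powTorsion {R S : Type u} [CommRing R] [CommRing S] (σ : R →+* S) (J : Ideal R)
    (hsurj : ∀ (n : ℕ) (s : S), ∃ r, s - σ r ∈ (J ^ n).map σ)
    (hinj : ∀ (n : ℕ) (r : R), σ r ∈ (J ^ n).map σ → r ∈ J ^ n)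
    (N : Type u) [AddCommGroup N] [Module R N] (htors : ∀ m : N, ∃ n, ∀ a ∈ J ^ n, a • m = 0) :
    ∃ inst : Module S N, ∀ (r : R) (m : N), inst.smul (σ r) m = r • m := by
  classical
  choose ρ hρ using hsurj
  choose ν hν using htors
  have key : ∀ (s : S) (r : R) (n : ℕ) (m : N), s - σ r ∈ (J ^ n).map σ → (∀ a ∈ J ^ n, a • m = 0) →
      ρ (ν m) s • m = r • m := by
    intro s r n m h1 h2
    refine sub_eq_zero.1 ((sub_smul _ _ _).symm.trans ?_)
    rcases le_total n (ν m) with hle | hle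
    · refine h2 _ (hinj n _ ?_)
      rw [map_sub, show σ (ρ (ν m) s) - σ r = (s - σ r) - (s - σ (ρ (ν m) s)) by ring]
      exact Ideal.sub_mem _ h1 (Ideal.map_mono (Ideal.pow_le_pow_right hle) (hρ (ν m) s))
    · refine hν m _ (hinj (ν m) _ ?_)
      rw [map_sub, show σ (ρ (ν m) s) - σ r = (s - σ r) - (s - σ (ρ (ν m) s)) by ring]
      exact Ideal.sub_mem _ (Ideal.map_mono (Ideal.pow_le_pow_right hle) h1) (hρ (ν m) s)
  have hσ : ∀ (r : R) (m : N), ρ (ν m) (σ r) • m = r • m := fun r m =>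
    key _ r (ν m) m (by rw [sub_self]; exact Ideal.zero_mem _) (hν m)
  refine ⟨{ smul := fun s m => ρ (ν m) s • m
            one_smul := fun m => ?h_one_smul
            mul_smul := fun s t m => ?h_mul_smul
            smul_zero := fun s => ?h_smul_zero
            smul_add := fun s m m' => ?h_smul_add
            add_smul := fun s t m => ?h_add_smul
            zero_smul := fun m => ?h_zero_smul }, hσ⟩
  case h_one_smul =>
    show ρ (ν m) 1 • m = m
    rw [← map_one σ, hσ, one_smul]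
  case h_mul_smul =>
    show ρ (ν m) (s * t) • m = ρ (ν (ρ (ν m) t • m)) s • (ρ (ν m) t • m)
    have hk : ∀ a ∈ J ^ ν m, a • (ρ (ν m) t • m) = 0 := fun a ha => by
      rw [← mul_smul, mul_comm, mul_smul, hν m a ha, smul_zero]
    rw [key s (ρ (ν m) s) (ν m) _ (hρ _ _) hk, ← mul_smul]
    refine key _ _ (ν m) m ?_ (hν m)
    rw [map_mul, show s * t - σ (ρ (ν m) s) * σ (ρ (ν m) t) =
      s * (t - σ (ρ (ν m) t)) + σ (ρ (ν m) t) * (s - σ (ρ (ν m) s)) by ring]
    exact Ideal.add_mem _ (Ideal.mul_mem_left _ _ (hρ _ _)) (Ideal.mul_mem_left _ _ (hρ _ _))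
  case h_smul_zero =>
    exact smul_zero _
  case h_smul_add =>
    show ρ (ν (m + m')) s • (m + m') = ρ (ν m) s • m + ρ (ν m') s • m'
    have hk : ∀ (x : N) (j : ℕ), ν x ≤ j → ∀ a ∈ J ^ j, a • x = 0 :=
      fun x j hj a ha => hν x a (Ideal.pow_le_pow_right hj ha)
    rw [key s (ρ (ν m + ν m') s) (ν m + ν m') _ (hρ _ _) fun a ha => by
        rw [smul_add, hk m _ (Nat.le_add_right _ _) a ha, hk m' _ (Nat.le_add_left _ _) a ha, add_zero],
      key s (ρ (ν m + ν m') s) (ν m + ν m') m (hρ _ _) (hk m _ (Nat.le_add_right _ _)),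
      key s (ρ (ν m + ν m') s) (ν m + ν m') m' (hρ _ _) (hk m' _ (Nat.le_add_left _ _)), smul_add]
  case h_add_smul =>
    show ρ (ν m) (s + t) • m = ρ (ν m) s • m + ρ (ν m) t • m
    rw [← add_smul]
    refine key _ _ (ν m) m ?_ (hν m)
    rw [map_add, show s + t - (σ (ρ (ν m) s) + σ (ρ (ν m) t)) =
      (t - σ (ρ (ν m) t)) + (s - σ (ρ (ν m) s)) by ring]
    exact Ideal.add_mem _ (hρ _ _) (hρ _ _)
  case h_zero_smul =>
    show ρ (ν m) 0 • m = 0
    rw [← map_zero σ, hσ, zero_smul]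

end CmplTorsLib
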