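import Groth.Agent.CmplTorsLib.Germ
import Mathlib.RingTheory.TensorProduct.Maps
import Mathlib.RingTheory.Flat.Basic

/-!
# Annihilated germs in pullbacks to a completion
-/

set_option autoImplicit false
set_option linter.unusedSectionVars false
set_option linter.style.haveILetI false

noncomputable section

universe u

open CategoryTheory CategoryTheory.Limits TopologicalSpace Opposite AlgebraicGeometry FSch TensorProduct
open FModLib (MSec RSec oK mres rres)

namespace CmplTorsLib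

/-- In a flat base change of a module, elements killed by finitely many scalars of the base are combinations of such
elements of the module. -/
theorem mem_span_killed_of_flat {R S M P : Type u} [CommRing R] [CommRing S] [AddCommGroup M] [Module R M]
    [AddCommGroup P] [Module S P] (φ : R →+* S) (hφ : φ.Flat) (u : M →+ P) (hlin : ∀ r m, u (r • m) = φ r • u m)
    (hspan : Submodule.span S (Set.range u) = ⊤)
    (huniv : ∀ (A : Type u) [AddCommGroup A] [Module S A] (g : M →+ A), (∀ r m, g (r • m) = φ r • g m) →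
      ∃ h : P →ₗ[S] A, ∀ m, h (u m) = g m)
    {ι : Type u} [Fintype ι] (a : ι → R) (p : P) (hp : ∀ l, φ (a l) • p = 0) :
    p ∈ Submodule.span S (u '' {k | ∀ l, a l • k = 0}) := by
  classical
  letI : Algebra R S := φ.toAlgebra
  haveI : Module.Flat R S := hφ
  letI : Module R P := Module.compHom P φ
  haveI : IsScalarTower R S P := ⟨fun r s q => mul_smul (φ r) s q⟩
  let uL : M →ₗ[R] P := { toFun := u, map_add' := map_add u, map_smul' := hlin }
  let v : S ⊗[R] M →ₗ[S] P := uL.liftBaseChange S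
  obtain ⟨h, hh⟩ := huniv (S ⊗[R] M)
    { toFun := fun m => (1 : S) ⊗ₜ[R] m, map_zero' := TensorProduct.tmul_zero _ _,
      map_add' := TensorProduct.tmul_add _ }
    fun r m => (TensorProduct.tmul_smul r (1 : S) m).trans (algebraMap_smul S r _).symm
  have hvh : ∀ q : P, v (h q) = q := fun q => by
    have hq : q ∈ (⊤ : Submodule S P) := Submodule.mem_top
    rw [← hspan] at hq
    induction hq using Submodule.span_induction with
    | mem q hq =>
      obtain ⟨m, rfl⟩ := hq
      refine (congrArg v (hh m)).trans ?_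
      show v ((1 : S) ⊗ₜ[R] m) = u m
      rw [LinearMap.liftBaseChange_tmul, one_smul]
      rfl
    | zero => rw [map_zero, map_zero]
    | add s t _ _ hs ht => rw [map_add, map_add, hs, ht]
    | smul c s _ hs => rw [map_smul, map_smul, hs]
  let K : Submodule R M := ⨅ l, LinearMap.ker (LinearMap.lsmul R M (a l))
  let G : M →ₗ[R] (ι → M) := LinearMap.pi fun l => LinearMap.lsmul R M (a l)
  have hex : Function.Exact K.subtype G := fun m => by
    constructor
    · intro hm
      exact ⟨⟨m, (Submodule.mem_iInf _).2 fun l => congr_fun hm l⟩, rfl⟩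
    · rintro ⟨⟨k, hk⟩, rfl⟩
      exact funext fun l => (Submodule.mem_iInf _).1 hk l
  have h0 : LinearMap.lTensor S G (h p) = 0 := by
    refine (TensorProduct.piRight R R S (fun _ : ι => M)).injective (funext fun l => ?_)
    rw [map_zero]
    have hl : ∀ x : S ⊗[R] M,
        TensorProduct.piRight R R S (fun _ : ι => M) (LinearMap.lTensor S G x) l = φ (a l) • x := fun x => by
      induction x using TensorProduct.induction_on with
      | zero => simp
      | tmul s m =>
        rw [LinearMap.lTensor_tmul, TensorProduct.piRight_apply, TensorProduct.piRightHom_tmul]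
        exact (TensorProduct.tmul_smul (a l) s m).trans (algebraMap_smul S (a l) _).symm
      | add s t hs ht => rw [map_add, map_add, Pi.add_apply, hs, ht, smul_add]
    exact (hl (h p)).trans ((map_smul h (φ (a l)) p).symm.trans ((congrArg h (hp l)).trans (map_zero _)))
  obtain ⟨w, hw⟩ := ((Module.Flat.lTensor_exact S hex) (h p)).1 h0
  rw [← hvh p, ← hw]
  clear hw
  induction w using TensorProduct.induction_on with
  | zero => rw [map_zero, map_zero]; exact Submodule.zero_mem _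
  | tmul s k =>
    rw [LinearMap.lTensor_tmul, LinearMap.liftBaseChange_tmul]
    exact Submodule.smul_mem _ s (Submodule.subset_span ⟨k.1, fun l => (Submodule.mem_iInf _).1 k.2 l, rfl⟩)
  | add s t hs ht => rw [map_add, map_add]; exact Submodule.add_mem _ hs ht

variable {X : Scheme.{u}} [IsLocallyNoetherian X] (𝓘 : X.IdealSheafData)
  (hX : (completionAlong X 𝓘).IsFormal) (N : ModSite.Mod X.sheaf)

theorem exists_stalk_map (y : (completionAlong X 𝓘).X 0) :
    ∃ u : (FlatMorLib.stalk X.sheaf (completionToX X 𝓘 0 y)).obj N →+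
        (FlatMorLib.stalk (Oh 𝓘 hX) y).obj ((kap 𝓘 hX).pull.obj N),
      (∀ (U : X.Opens) (hy : completionToX X 𝓘 0 y ∈ U) (m : MSec N U),
        u ((FlatMorLib.prs X.sheaf N).germ U _ hy m) =
          (FlatMorLib.prs (Oh 𝓘 hX) ((kap 𝓘 hX).pull.obj N)).germ (pre 𝓘 U) y hy (eta 𝓘 hX N m)) ∧
      ∀ (r : X.sheaf.presheaf.stalk (completionToX X 𝓘 0 y))
        (m : (FlatMorLib.stalk X.sheaf (completionToX X 𝓘 0 y)).obj N), u (r • m) = sH 𝓘 hX y r • u m := by
  let f := (completionToX X 𝓘 0).base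
  let P := (kap 𝓘 hX).pull.obj N
  let ψ : FlatMorLib.prs X.sheaf N ⟶
      (TopCat.Presheaf.pushforward AddCommGrpCat.{u} f).obj (FlatMorLib.prs (Oh 𝓘 hX) P) :=
    (PresheafOfModules.toPresheaf _).map ((kap 𝓘 hX).adj.unit.app N).val
  let u : (FlatMorLib.prs X.sheaf N).stalk (f y) ⟶ (FlatMorLib.prs (Oh 𝓘 hX) P).stalk y :=
    (TopCat.Presheaf.stalkFunctor AddCommGrpCat.{u} (f y)).map ψ ≫
      TopCat.Presheaf.stalkPushforward AddCommGrpCat.{u} f (FlatMorLib.prs (Oh 𝓘 hX) P) y
  have hu : ∀ (U : X.Opens) (hy : completionToX X 𝓘 0 y ∈ U) (m : MSec N U),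
      u ((FlatMorLib.prs X.sheaf N).germ U _ hy m) =
        (FlatMorLib.prs (Oh 𝓘 hX) P).germ (pre 𝓘 U) y hy (eta 𝓘 hX N m) := fun U hy m =>
    (congrArg (TopCat.Presheaf.stalkPushforward AddCommGrpCat.{u} f (FlatMorLib.prs (Oh 𝓘 hX) P) y)
      (TopCat.Presheaf.stalkFunctor_map_germ_apply U (f y) hy ψ m)).trans
      (TopCat.Presheaf.stalkPushforward_germ_apply ..)
  refine ⟨u.hom, hu, fun r m => ?_⟩
  obtain ⟨U, hU, a, rfl⟩ := X.sheaf.presheaf.exists_germ_eq (x := f y) r
  obtain ⟨V, hV, s, rfl⟩ := (FlatMorLib.prs X.sheaf N).exists_germ_eq (x := f y) m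
  have hW : f y ∈ U ⊓ V := ⟨hU, hV⟩
  rw [← TopCat.Presheaf.germ_res_apply X.sheaf.presheaf (homOfLE (inf_le_left : U ⊓ V ≤ U)) (f y) hW a,
    ← TopCat.Presheaf.germ_res_apply (FlatMorLib.prs X.sheaf N) (homOfLE (inf_le_right : U ⊓ V ≤ V)) (f y) hW s]
  refine (congrArg u (PresheafOfModules.germ_smul (R := X.sheaf.presheaf) (FlatMorLib.valC X.sheaf N) (f y)
    (U ⊓ V) hW _ _).symm).trans ((hu (U ⊓ V) hW _).trans ?_)
  refine (congrArg ((FlatMorLib.prs (Oh 𝓘 hX) P).germ (pre 𝓘 (U ⊓ V)) y hW) (eta_smul 𝓘 hX N _ _)).trans ?_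
  refine (PresheafOfModules.germ_smul (R := (Oh 𝓘 hX).presheaf) (FlatMorLib.valC (Oh 𝓘 hX) P) y _ hW _ _).trans ?_
  exact congrArg₂ (fun (c : (Oh 𝓘 hX).presheaf.stalk y) z => c • z) (sH_germ 𝓘 hX y hW _).symm (hu (U ⊓ V) hW _).symm

/-- Germs of the pullback killed by finitely many functions of the base are spanned by such germs of the base. -/
theorem mem_span_of_killed (y : (completionAlong X 𝓘).X 0) {ι : Type u} [Finite ι]
    (a : ι → X.sheaf.presheaf.stalk (completionToX X 𝓘 0 y))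
    (u : (FlatMorLib.stalk X.sheaf (completionToX X 𝓘 0 y)).obj N →+
      (FlatMorLib.stalk (Oh 𝓘 hX) y).obj ((kap 𝓘 hX).pull.obj N))
    (hu : ∀ (U : X.Opens) (hy : completionToX X 𝓘 0 y ∈ U) (m : MSec N U),
      u ((FlatMorLib.prs X.sheaf N).germ U _ hy m) =
        (FlatMorLib.prs (Oh 𝓘 hX) ((kap 𝓘 hX).pull.obj N)).germ (pre 𝓘 U) y hy (eta 𝓘 hX N m))
    (hlin : ∀ (r : X.sheaf.presheaf.stalk (completionToX X 𝓘 0 y))
      (m : (FlatMorLib.stalk X.sheaf (completionToX X 𝓘 0 y)).obj N), u (r • m) = sH 𝓘 hX y r • u m)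
    (p : (FlatMorLib.stalk (Oh 𝓘 hX) y).obj ((kap 𝓘 hX).pull.obj N))
    (hp : ∀ l, sH 𝓘 hX y (a l) • p = 0) :
    p ∈ Submodule.span ((Oh 𝓘 hX).presheaf.stalk y) (u '' {k | ∀ l, a l • k = 0}) := by
  cases nonempty_fintype ι
  refine mem_span_killed_of_flat (R := X.sheaf.presheaf.stalk (completionToX X 𝓘 0 y)) (sH 𝓘 hX y).hom (FComplLib.flat_stalkHom 𝓘 hX y) u hlin ?_ ?_ a p hp
  · refine eq_top_iff.2 (le_of_eq_of_le (stalk_span 𝓘 hX N y).symm (Submodule.span_mono ?_))
    rintro _ ⟨U, hy, m, rfl⟩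
    exact ⟨_, hu U hy m⟩
  · intro A _ _ g hg
    let ρ : X.sheaf.presheaf.stalk (completionToX X 𝓘 0 y) →+* (Oh 𝓘 hX).presheaf.stalk y := (sH 𝓘 hX y).hom
    let g' : (FlatMorLib.stalk X.sheaf (completionToX X 𝓘 0 y)).obj N ⟶
        (ModuleCat.restrictScalars ρ).obj (ModuleCat.of ((Oh 𝓘 hX).presheaf.stalk y) A) :=
      ModuleCat.ofHom (Y := (ModuleCat.restrictScalars ρ).obj (ModuleCat.of ((Oh 𝓘 hX).presheaf.stalk y) A))
        { toFun := g, map_add' := map_add g, map_smul' := hg }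
    obtain ⟨h, hh⟩ := exists_stalk_hom 𝓘 hX N y (ModuleCat.of _ A) g'
    refine ⟨h.hom, fun m => ?_⟩
    obtain ⟨U, hU, t, rfl⟩ := (FlatMorLib.prs X.sheaf N).exists_germ_eq (x := completionToX X 𝓘 0 y) m
    exact (congrArg h.hom (hu U hU t)).trans (hh U hU t)

end CmplTorsLib
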