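import Groth.Agent.CmplTorsLib.Ann
import Groth.Agent.IndCohLib.TorsBasic
import Mathlib.LinearAlgebra.Finsupp.LinearCombination

/-!
# Annihilated sections of pullbacks to a completion
-/

set_option autoImplicit false
set_option linter.unusedSectionVars false
set_option linter.style.haveILetI false
set_option maxHeartbeats 400000

noncomputable section

universe u

open CategoryTheory CategoryTheory.Limits TopologicalSpace Opposite AlgebraicGeometry FSch
open FModLib (MSec RSec oK mres rres)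

namespace CmplTorsLib

variable {X : Scheme.{u}} [IsLocallyNoetherian X] (𝓘 : X.IdealSheafData)
  (hX : (completionAlong X 𝓘).IsFormal) (N : ModSite.Mod X.sheaf)

/-- A section of the pullback killed by finitely many functions of an affine open is locally a combination of sections
of the module killed by them. -/
theorem exists_local_killed (D : X.affineOpens) {ι : Type u} [Finite ι] (a : ι → Γ(X, D.1))
    {W : ((completionAlong X 𝓘).X 0).Opens} (hW : W ≤ pre 𝓘 D) (s : MSec ((kap 𝓘 hX).pull.obj N) W)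
    (hs : ∀ l, (rres ((completionAlong X 𝓘).Osh hX) hW (σ 𝓘 hX D (a l)) • s : MSec ((kap 𝓘 hX).pull.obj N) W) = 0)
    {y : (completionAlong X 𝓘).X 0} (hy : y ∈ W) :
    ∃ (U : X.Opens) (hU : U ≤ D.1) (h : pre 𝓘 U ≤ W) (k : ℕ)
      (c : Fin k → RSec ((completionAlong X 𝓘).Osh hX) (pre 𝓘 U)) (m : Fin k → MSec N U),
      y ∈ pre 𝓘 U ∧ (∀ j l, (rres X.sheaf hU (a l) • m j : MSec N U) = 0) ∧
        mres _ h s = ∑ j, (c j • eta 𝓘 hX N (m j) : MSec ((kap 𝓘 hX).pull.obj N) (pre 𝓘 U)) := by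
  classical
  cases nonempty_fintype ι
  let P := (kap 𝓘 hX).pull.obj N
  let x := completionToX X 𝓘 0 y
  have hxD : x ∈ D.1 := hW hy
  obtain ⟨u, hu, hlin⟩ := exists_stalk_map 𝓘 hX N y
  let a' : ι → X.sheaf.presheaf.stalk x := fun l => X.sheaf.presheaf.germ D.1 x hxD (a l)
  let p : (FlatMorLib.stalk (Oh 𝓘 hX) y).obj P := (FlatMorLib.prs (Oh 𝓘 hX) P).germ W y hy s
  have hp : ∀ l, sH 𝓘 hX y (a' l) • p = 0 := fun l => by
    refine Eq.trans (congrArg (fun c : (Oh 𝓘 hX).presheaf.stalk y => c • p)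
      ((sH_germ 𝓘 hX y hxD (a l)).trans
        (TopCat.Presheaf.germ_res_apply (Oh 𝓘 hX).presheaf (homOfLE hW) y hy (σ 𝓘 hX D (a l))).symm)) ?_
    refine (PresheafOfModules.germ_smul (R := (Oh 𝓘 hX).presheaf) (FlatMorLib.valC (Oh 𝓘 hX) P) y W hy _ _).symm.trans ?_
    exact (congrArg ((FlatMorLib.prs (Oh 𝓘 hX) P).germ W y hy) (hs l)).trans (map_zero _)
  obtain ⟨k, f, g, hfg⟩ := Submodule.mem_span_set'.1 (mem_span_of_killed 𝓘 hX N y a' u hu hlin p hp)
  choose m₀ hm₀ hum using fun j => (g j).2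
  choose Ui hUi mi hmi using fun j => (FlatMorLib.prs X.sheaf N).exists_germ_eq (x := x) (m₀ j)
  choose Vi hVi ci hci using fun j => (Oh 𝓘 hX).presheaf.exists_germ_eq (x := y) (f j)
  have hKill : ∀ j l, ∃ (B : X.Opens) (hB : B ≤ D.1) (hB' : B ≤ Ui j), x ∈ B ∧
      (rres X.sheaf hB (a l) • mres N hB' (mi j) : MSec N B) = 0 := fun j l => by
    have hx' : x ∈ D.1 ⊓ Ui j := ⟨hxD, hUi j⟩
    have h0 : (FlatMorLib.prs X.sheaf N).germ (D.1 ⊓ Ui j) x hx'
        (rres X.sheaf (inf_le_left : D.1 ⊓ Ui j ≤ D.1) (a l) • mres N (inf_le_right : D.1 ⊓ Ui j ≤ Ui j) (mi j) :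
          MSec N (D.1 ⊓ Ui j)) = 0 := by
      refine (PresheafOfModules.germ_smul (R := X.sheaf.presheaf) (FlatMorLib.valC X.sheaf N) x _ hx' _ _).trans ?_
      refine Eq.trans (congrArg₂ (fun (c : X.sheaf.presheaf.stalk x) z => c • z)
        (TopCat.Presheaf.germ_res_apply X.sheaf.presheaf _ x hx' (a l))
        ((TopCat.Presheaf.germ_res_apply (FlatMorLib.prs X.sheaf N) _ x hx' (mi j)).trans (hmi j))) (hm₀ j l)
    rw [← map_zero ((FlatMorLib.prs X.sheaf N).germ (D.1 ⊓ Ui j) x hx').hom] at h0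
    obtain ⟨B, hxB, i₁, i₂, he⟩ := (FlatMorLib.prs X.sheaf N).germ_eq x hx' hx' _ _ h0
    refine ⟨B, i₁.le.trans inf_le_left, i₁.le.trans inf_le_right, hxB, Eq.trans ?_ (he.trans (map_zero _))⟩
    refine Eq.trans ?_ (PresheafOfModules.map_smul N.val i₁.op _ _).symm
    exact congrArg₂ (fun (c : RSec X.sheaf B) z => (c • z : MSec N B))
      (FModLib.rres_rres (O := X.sheaf) i₁.le inf_le_left (a l)).symm (FModLib.mres_mres N i₁.le inf_le_right (mi j)).symm
  choose B hBD hBU hxB hB using hKill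
  let U₀ : X.Opens := D.1 ⊓ Finset.univ.inf fun j => Ui j ⊓ Finset.univ.inf (B j)
  have hxU₀ : x ∈ U₀ := by
    refine ⟨hxD, ?_⟩
    have : ∀ {κ : Type u} (G : κ → X.Opens) (T : Finset κ), (∀ j, x ∈ G j) → x ∈ T.inf G := fun G T hG =>
      Finset.induction_on T trivial fun a T _ ih => by rw [Finset.inf_insert]; exact ⟨hG a, ih⟩
    have h2 : ∀ (G : Fin k → X.Opens) (T : Finset (Fin k)), (∀ j, x ∈ G j) → x ∈ T.inf G := fun G T hG =>
      Finset.induction_on T trivial fun a T _ ih => by rw [Finset.inf_insert]; exact ⟨hG a, ih⟩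
    exact h2 _ _ fun j => ⟨hUi j, this _ _ (hxB j)⟩
  let V₀ : ((completionAlong X 𝓘).X 0).Opens := W ⊓ Finset.univ.inf Vi
  have hyV₀ : y ∈ V₀ := by
    refine ⟨hy, ?_⟩
    have : ∀ T : Finset (Fin k), y ∈ T.inf Vi := fun T =>
      Finset.induction_on T trivial fun a T _ ih => by rw [Finset.inf_insert]; exact ⟨hVi a, ih⟩
    exact this _
  obtain ⟨D₁, hyD₁, hD₁, hD₁V⟩ := exists_affine_nhd 𝓘 hyV₀ hxU₀
  have hUj : ∀ j, (D₁ : X.Opens) ≤ Ui j := fun j =>
    (hD₁.trans inf_le_right).trans ((Finset.inf_le (Finset.mem_univ j)).trans inf_le_left)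
  have hVj : ∀ j, pre 𝓘 D₁ ≤ Vi j := fun j => (hD₁V.trans inf_le_right).trans (Finset.inf_le (Finset.mem_univ j))
  let m := fun j => mres N (hUj j) (mi j)
  let c := fun j => rres ((completionAlong X 𝓘).Osh hX) (hVj j) (ci j)
  have hkey : (FlatMorLib.prs (Oh 𝓘 hX) P).germ (pre 𝓘 D₁) y hyD₁ (mres P (hD₁V.trans inf_le_left) s) =
      (FlatMorLib.prs (Oh 𝓘 hX) P).germ (pre 𝓘 D₁) y hyD₁ (∑ j, (c j • eta 𝓘 hX N (m j) : MSec P (pre 𝓘 D₁))) := by
    refine (TopCat.Presheaf.germ_res_apply _ _ _ _ _).trans (hfg.symm.trans ?_)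
    refine Eq.trans ?_ (map_sum ((FlatMorLib.prs (Oh 𝓘 hX) P).germ (pre 𝓘 D₁) y hyD₁).hom _ _).symm
    refine Finset.sum_congr rfl fun j _ => Eq.symm ?_
    refine (PresheafOfModules.germ_smul (R := (Oh 𝓘 hX).presheaf) (FlatMorLib.valC (Oh 𝓘 hX) P) y _ hyD₁ _ _).trans ?_
    refine congrArg₂ (fun (q : (Oh 𝓘 hX).presheaf.stalk y) z => q • z)
      ((TopCat.Presheaf.germ_res_apply (Oh 𝓘 hX).presheaf _ y hyD₁ (ci j)).trans (hci j)) ?_
    refine ((hu D₁.1 hyD₁ (m j)).symm.trans ?_).trans (hum j)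
    exact congrArg u ((TopCat.Presheaf.germ_res_apply (FlatMorLib.prs X.sheaf N) _ x hyD₁ (mi j)).trans (hmi j))
  obtain ⟨B', hyB, i₁, i₂, he⟩ := (FlatMorLib.prs (Oh 𝓘 hX) P).germ_eq y hyD₁ hyD₁ _ _ hkey
  obtain ⟨D₂, hyD₂, hD₂, hD₂B⟩ := exists_affine_nhd 𝓘 hyB (show x ∈ D₁.1 from hyD₁)
  refine ⟨D₂.1, hD₂.trans (hD₁.trans inf_le_left), (pre_mono 𝓘 hD₂).trans (hD₁V.trans inf_le_left), k,
    fun j => rres _ (pre_mono 𝓘 hD₂) (c j), fun j => mres N hD₂ (m j), hyD₂, fun j l => ?_, ?_⟩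
  · have hle : D₂.1 ≤ B j l := hD₂.trans ((hD₁.trans inf_le_right).trans ((Finset.inf_le (Finset.mem_univ j)).trans
      (inf_le_right.trans (Finset.inf_le (Finset.mem_univ l)))))
    have h1 := congrArg (mres N hle) (hB j l)
    refine Eq.trans ?_ (h1.trans (map_zero _))
    refine Eq.trans ?_ (PresheafOfModules.map_smul N.val (homOfLE hle).op _ _).symm
    exact congrArg₂ (fun (q : RSec X.sheaf D₂.1) z => (q • z : MSec N D₂.1))
      (FModLib.rres_rres (O := X.sheaf) hle (hBD j l) (a l)).symm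
      ((FModLib.mres_mres N hD₂ (hUj j) (mi j)).trans (FModLib.mres_mres N hle (hBU j l) (mi j)).symm)
  · rw [← FModLib.mres_mres P (pre_mono 𝓘 hD₂) (hD₁V.trans inf_le_left) s]
    have h1 : mres P (pre_mono 𝓘 hD₂) (mres P (hD₁V.trans inf_le_left) s) =
        mres P (pre_mono 𝓘 hD₂) (∑ j, (c j • eta 𝓘 hX N (m j) : MSec P (pre 𝓘 D₁))) := by
      refine ((FModLib.mres_mres P hD₂B i₁.le _).symm.trans (congrArg (mres P hD₂B) he)).trans ?_
      exact FModLib.mres_mres P hD₂B i₂.le _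
    refine h1.trans ((map_sum (P.val.map (homOfLE (pre_mono 𝓘 hD₂)).op).hom _ _).trans
      (Finset.sum_congr rfl fun j _ => ?_))
    refine (PresheafOfModules.map_smul P.val (homOfLE (pre_mono 𝓘 hD₂)).op _ _).trans ?_
    exact congrArg (fun z : MSec P (pre 𝓘 D₂) => (rres _ (pre_mono 𝓘 hD₂) (c j) • z : MSec P (pre 𝓘 D₂)))
      (eta_res 𝓘 hX N hD₂ (m j)).symm

end CmplTorsLib
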