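import Groth.Agent.FComplLib.FlatMor
import Groth.Agent.IndCohLib.TorsBasic
import Groth.Prelude.Def_FTors3

/-!
# Kernels of the levels of a completion
-/

set_option autoImplicit false
set_option linter.unusedSectionVars false

noncomputable section

universe u

open CategoryTheory CategoryTheory.Limits TopologicalSpace Opposite AlgebraicGeometry FSch
open FModLib (MSec RSec oK mres rres)
open FComplLib (secMap secProj levMap secMap_proj ker_levMap levMap_surjective)

namespace CmplTorsLib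

variable {X : Scheme.{u}} [IsLocallyNoetherian X] (𝓘 : X.IdealSheafData)
  (hX : (completionAlong X 𝓘).IsFormal)

/-- The completion. -/
abbrev Xh : Sys.{u} := completionAlong X 𝓘

/-- The completion morphism. -/
abbrev kap : ModSite.RMor ((completionAlong X 𝓘).Osh hX) X.sheaf :=
  toSchemeMor (completionAlong X 𝓘) hX (completionToX X 𝓘) (completionToX_comm X 𝓘)

/-- The preimage of an open. -/
abbrev pre (U : X.Opens) : ((completionAlong X 𝓘).X 0).Opens := completionToX X 𝓘 0 ⁻¹ᵁ U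

theorem pre_mono {U V : X.Opens} (h : V ≤ U) : pre 𝓘 V ≤ pre 𝓘 U :=
  (Opens.map (completionToX X 𝓘 0).base).monotone h

theorem hloc : (completionAlong X 𝓘).IsLocNoethFormal :=
  FComplLib.completionAlong_isLocNoethFormal X 𝓘

/-- Sections of `O_X` as sections of the completion. -/
abbrev σ (U : X.Opens) (a : Γ(X, U)) : RSec ((completionAlong X 𝓘).Osh hX) (pre 𝓘 U) := secMap 𝓘 hX U a

theorem σ_res {U V : X.Opens} (h : V ≤ U) (a : Γ(X, U)) :
    σ 𝓘 hX V (X.presheaf.map (homOfLE h).op a) = rres _ (pre_mono 𝓘 h) (σ 𝓘 hX U a) :=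
  congr($((FComplLib.sharpC 𝓘 hX).hom.naturality (homOfLE h).op) a)

theorem proj_σ (n : ℕ) (U : X.Opens) (a : Γ(X, U)) :
    secProj 𝓘 hX n U (σ 𝓘 hX U a) = levMap 𝓘 hX n U a :=
  congr($(secMap_proj 𝓘 hX n U) a)

theorem proj_rres (n : ℕ) {U V : X.Opens} (h : V ≤ U) (b : RSec ((completionAlong X 𝓘).Osh hX) (pre 𝓘 U)) :
    secProj 𝓘 hX n V (rres _ (pre_mono 𝓘 h) b) =
      ((completionAlong X 𝓘).levelObj hX n).obj.map (homOfLE (pre_mono 𝓘 h)).op (secProj 𝓘 hX n U b) :=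
  congr($(((completionAlong X 𝓘).OshProj hX n).hom.naturality (homOfLE (pre_mono 𝓘 h)).op) b)

theorem exists_affine_le {U : X.Opens} {x : X} (hx : x ∈ U) :
    ∃ D : X.affineOpens, x ∈ (D : X.Opens) ∧ (D : X.Opens) ≤ U := by
  obtain ⟨D, hD, hxD, hle⟩ := exists_isAffineOpen_mem_and_subset hx
  exact ⟨⟨D, hD⟩, hxD, hle⟩

/-- Every open of the completion is a preimage. -/
theorem exists_pre_eq (V : ((completionAlong X 𝓘).X 0).Opens) : ∃ U : X.Opens, pre 𝓘 U = V := by
  obtain ⟨U, hU, e⟩ := (completionToX X 𝓘 0).isClosedEmbedding.isInducing.isOpen_iff.mp V.isOpen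
  exact ⟨⟨U, hU⟩, Opens.ext e⟩

theorem exists_affine_nhd {V : ((completionAlong X 𝓘).X 0).Opens} {y : (completionAlong X 𝓘).X 0} (hy : y ∈ V)
    {U : X.Opens} (hU : completionToX X 𝓘 0 y ∈ U) :
    ∃ D : X.affineOpens, completionToX X 𝓘 0 y ∈ (D : X.Opens) ∧ (D : X.Opens) ≤ U ∧ pre 𝓘 D ≤ V := by
  obtain ⟨U₀, rfl⟩ := exists_pre_eq 𝓘 V
  obtain ⟨D, hD, hle⟩ := exists_affine_le (show completionToX X 𝓘 0 y ∈ U₀ ⊓ U from ⟨hy, hU⟩)
  exact ⟨D, hD, hle.trans inf_le_right, pre_mono 𝓘 (hle.trans inf_le_left)⟩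

/-- The level kernels restricted from the base are the powers of the ideal. -/
theorem mem_powIdeal_iff (n : ℕ) (U : X.Opens) (a : Γ(X, U)) :
    a ∈ (FTors.powIdealFam X 𝓘).ideal (n + 1) U ↔ secProj 𝓘 hX n U (σ 𝓘 hX U a) = 0 := by
  refine (FTors.mem_powIdealFam_iff X 𝓘 (n + 1) U a).trans ?_
  constructor
  · intro ha
    refine TopCat.Sheaf.eq_of_locally_eq'
      (F := (((completionAlong X 𝓘).levelObj hX n) : TopCat.Sheaf CommRingCat.{u} _))
      (fun D : {D : X.affineOpens // (D : X.Opens) ≤ U} => pre 𝓘 D.1) _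
      (fun D => homOfLE (pre_mono 𝓘 D.2)) (fun y hy => ?_) _ _ fun D => ?_
    · obtain ⟨D, hD, hle⟩ := exists_affine_le (show completionToX X 𝓘 0 y ∈ U from hy)
      exact Opens.mem_iSup.mpr ⟨⟨D, hle⟩, hD⟩
    · refine Eq.trans ?_ (map_zero ((((completionAlong X 𝓘).levelObj hX n)).obj.map
        (homOfLE (pre_mono 𝓘 D.2)).op).hom).symm
      refine (proj_rres 𝓘 hX n D.2 _).symm.trans ?_
      rw [← σ_res, proj_σ]
      have h := ha D.1 D.2
      rw [← ker_levMap 𝓘 hX n D.1] at h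
      exact h
  · intro ha W hW
    rw [← ker_levMap 𝓘 hX n W]
    show levMap 𝓘 hX n W (X.presheaf.map (homOfLE hW).op a) = 0
    rw [← proj_σ, σ_res 𝓘 hX hW, proj_rres 𝓘 hX n hW, ha, map_zero]

/-- Surjectivity onto the levels. -/
theorem exists_sub_proj_zero (n : ℕ) (D : X.affineOpens)
    (b : RSec ((completionAlong X 𝓘).Osh hX) (pre 𝓘 D)) :
    ∃ a : Γ(X, D.1), secProj 𝓘 hX n D (b - σ 𝓘 hX D a) = 0 := by
  obtain ⟨a, ha⟩ := levMap_surjective 𝓘 hX n D (secProj 𝓘 hX n D b)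
  exact ⟨a, by rw [map_sub, proj_σ, ha, sub_self]⟩

theorem isAffineOpen_pre (D : X.affineOpens) : IsAffineOpen (pre 𝓘 D) :=
  D.2.preimage (completionToX X 𝓘 0)

/-- The kernel of a level is generated by the power of the ideal. -/
theorem proj_eq_zero_iff (n : ℕ) (D : X.affineOpens) (b : RSec ((completionAlong X 𝓘).Osh hX) (pre 𝓘 D)) :
    secProj 𝓘 hX n D b = 0 ↔ b ∈ (𝓘.ideal D ^ (n + 1)).map (secMap 𝓘 hX D.1).hom := by
  have hN : IsNoetherianRing Γ(X, D.1) := IsLocallyNoetherian.component_noetherian D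
  constructor
  · intro hb
    obtain ⟨r, t, ht⟩ := Submodule.fg_iff_exists_fin_generating_family.1
      (IsNoetherian.noetherian (𝓘.ideal D ^ (n + 1)))
    obtain ⟨d, hd⟩ := FModLib.exists_rel_of_levels (hloc 𝓘) (isAffineOpen_pre 𝓘 D)
      (fun (l : ULift.{u} (Fin r)) (_ : PUnit.{u + 1}) => σ 𝓘 hX D (t l.down)) (fun _ => b) fun k => by
        by_cases hkn : k ≤ n
        · refine ⟨fun _ => 0, fun _ => ?_⟩
          simp only [zero_mul, Finset.sum_const_zero]
          refine (IndCohLib.oK_eq_zero_of_le (hloc 𝓘) hkn hb).trans ?_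
          exact (map_zero (((completionAlong X 𝓘).OshProj hX k).hom.app (op (pre 𝓘 D))).hom).symm
        obtain ⟨a, ha⟩ := exists_sub_proj_zero 𝓘 hX k D b
        have han : a ∈ 𝓘.ideal D ^ (n + 1) := by
          rw [← ker_levMap 𝓘 hX n D]
          show levMap 𝓘 hX n D a = 0
          rw [← proj_σ]
          have h1 : secProj 𝓘 hX n D (b - σ 𝓘 hX D a) = 0 :=
            IndCohLib.oK_eq_zero_of_le (hloc 𝓘) (le_of_not_ge hkn) ha
          rw [map_sub, hb, zero_sub, neg_eq_zero] at h1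
          exact h1
        rw [← ht] at han; replace han := Submodule.mem_span_range_iff_exists_fun _ |>.1 han
        obtain ⟨c, hc⟩ := han
        refine ⟨fun l => σ 𝓘 hX D (c l.down), fun _ => ?_⟩
        rw [map_sub, sub_eq_zero] at ha
        refine ha.trans (congrArg _ ?_)
        rw [← hc]
        refine (map_sum (secMap 𝓘 hX D.1).hom _ _).trans (Fintype.sum_equiv Equiv.ulift.symm _ _ fun i => ?_)
        exact map_mul (secMap 𝓘 hX D.1).hom (c i) (t i)
    rw [hd ⟨⟩]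
    refine Ideal.sum_mem _ fun l _ => Ideal.mul_mem_left _ _ (Ideal.mem_map_of_mem _ ?_)
    rw [← ht]
    exact Submodule.subset_span ⟨l.down, rfl⟩
  · intro hb
    have hle : (𝓘.ideal D ^ (n + 1)).map (secMap 𝓘 hX D.1).hom ≤ RingHom.ker (secProj 𝓘 hX n D.1).hom := by
      rw [Ideal.map_le_iff_le_comap]
      intro a ha
      rw [← ker_levMap 𝓘 hX n D] at ha
      show secProj 𝓘 hX n D (σ 𝓘 hX D a) = 0
      rw [proj_σ]
      exact ha
    exact hle hb

end CmplTorsLib
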