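import Groth.Agent.CmplTorsLib.DivPull
import Groth.Agent.DTorsLib.RgammaCoprod

/-!
# Derived torsion of pullbacks of complexes of injective modules
-/

set_option autoImplicit false
set_option linter.unusedSectionVars false
set_option linter.style.haveILetI false
set_option maxHeartbeats 800000
set_option synthInstance.maxHeartbeats 80000

noncomputable section

universe u

open CategoryTheory CategoryTheory.Limits TopologicalSpace Opposite AlgebraicGeometry FSch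
open Groth.Agent
open FModLib (MSec RSec oK mres rres)

attribute [local instance] HasDerivedCategory.standard

namespace CmplTorsLib

variable {X : Scheme.{u}} [IsLocallyNoetherian X] (𝓘 : X.IdealSheafData)

/-- Divisibility for functions of the base. -/
def DivPre (M : ModF (completionAlong X 𝓘) (hloc 𝓘).1) : Prop :=
  ∀ (D : X.affineOpens) (L₀ : List Γ(X, D.1)), DTorsLib.DivList (hloc 𝓘) M (L₀.map (σ 𝓘 (hloc 𝓘).1 D))

theorem divPre_pull (I : ModSite.Mod X.sheaf) [Injective I] : DivPre 𝓘 ((kap 𝓘 (hloc 𝓘).1).pull.obj I) :=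
  fun D L₀ => divList_pull 𝓘 D L₀ I

theorem divPre_injective (M : ModF (completionAlong X 𝓘) (hloc 𝓘).1) [Injective M] : DivPre 𝓘 M :=
  fun D L₀ => DTorsLib.divList_of_isDiv (hloc 𝓘) (isAffineOpen_pre 𝓘 D) (DTorsLib.isDiv_of_injective (hloc 𝓘) M) _

theorem divPre_of_split {A B C : ModF (completionAlong X 𝓘) (hloc 𝓘).1} (i₁ : A ⟶ C) (i₂ : B ⟶ C) (p₁ : C ⟶ A)
    (p₂ : C ⟶ B) (h : p₁ ≫ i₁ + p₂ ≫ i₂ = 𝟙 C) (hA : DivPre 𝓘 A) (hB : DivPre 𝓘 B) : DivPre 𝓘 C := by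
  intro D L₀ t L hsuf W hW x hx n y hy
  let O := (completionAlong X 𝓘).Osh (hloc 𝓘).1
  obtain ⟨W₁, h₁, d₁, a, hy₁, hat, ha⟩ := hA D L₀ t L hsuf W hW _ (hx.app (hloc 𝓘) p₁) n y hy
  obtain ⟨W₂, h₂, d₂, b, hy₂, hbt, hb⟩ := hB D L₀ t L hsuf W₁ (h₁.trans hW) _
    ((hx.res (hloc 𝓘) h₁).app (hloc 𝓘) p₂) n y hy₁
  have hW₂ := h₂.trans (h₁.trans hW)
  let c : RSec O W₂ := rres O hW₂ t
  refine ⟨W₂, h₂.trans h₁, d₁ + d₂, i₁.val.app (op W₂) (mres A h₂ a) + i₂.val.app (op W₂) b, hy₂, ?_, ?_⟩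
  · have h1 := (hat.res (hloc 𝓘) h₂).app (hloc 𝓘) i₁
    have h2 := hbt.app (hloc 𝓘) i₂
    intro q hq
    obtain ⟨U₁, k₁, e₁, hq₁, he₁⟩ := h1 q hq
    obtain ⟨U₂, k₂, e₂, hq₂, he₂⟩ := (h2.res (hloc 𝓘) k₁) q hq₁
    refine ⟨U₂, k₂.trans k₁, max e₁ e₂, hq₂, fun z hz => ?_⟩
    refine (congrArg (fun s : MSec C U₂ => (_ • s : MSec C U₂)) (map_add _ _ _)).trans ((smul_add _ _ _).trans ?_)
    refine (congrArg₂ (fun p q => p + q) ?_ ?_).trans (add_zero _)
    · refine DTorsLib.pow_smul_mono (hloc 𝓘) (le_max_left e₁ e₂) ?_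
      refine (congrArg (fun s : MSec C U₂ => (_ • s : MSec C U₂)) (FModLib.mres_mres C k₂ k₁ _).symm).trans ?_
      refine Eq.trans ?_ ((congrArg (mres C k₂) (he₁ z hz)).trans (map_zero _))
      exact (DTorsLib.mres_pow_smul (hloc 𝓘) k₂ (k₁.trans hW₂) z e₁ _).symm
    · refine DTorsLib.pow_smul_mono (hloc 𝓘) (le_max_right e₁ e₂) ?_
      refine (congrArg (fun s : MSec C U₂ => (_ • s : MSec C U₂)) (FModLib.mres_mres C k₂ k₁ _).symm).trans ?_
      exact he₂ z hz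
  have hpow : ∀ e, c ^ e = rres O h₂ (rres O (h₁.trans hW) t ^ e) := fun e => by
    show rres O hW₂ t ^ e = _
    rw [← FModLib.rres_rres h₂ (h₁.trans hW) t]
    exact (map_pow (O.obj.map (homOfLE h₂).op).hom _ e).symm
  let x₂ := mres C (h₂.trans h₁) x
  have ha' : (c ^ (d₁ + n) • mres A h₂ a : MSec A W₂) = (c ^ d₁ • p₁.val.app (op W₂) x₂ : MSec A W₂) := by
    rw [hpow, hpow, IndCohLib.app_mres (hloc 𝓘), ← FModLib.mres_mres A h₂ h₁]
    exact ((IndCohLib.mres_smul (hloc 𝓘) h₂ _ a).symm.trans (congrArg (mres A h₂) ha)).trans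
      (IndCohLib.mres_smul (hloc 𝓘) h₂ _ _)
  have hb' : (c ^ (d₂ + n) • b : MSec B W₂) = (c ^ d₂ • p₂.val.app (op W₂) x₂ : MSec B W₂) := by
    refine hb.trans ?_
    rw [← IndCohLib.app_mres (hloc 𝓘), FModLib.mres_mres]
  show (c ^ (d₁ + d₂ + n) • (i₁.val.app (op W₂) (mres A h₂ a) + i₂.val.app (op W₂) b) : MSec C W₂) =
    (c ^ (d₁ + d₂) • x₂ : MSec C W₂)
  rw [smul_add]
  have e1 : (c ^ (d₁ + d₂ + n) • i₁.val.app (op W₂) (mres A h₂ a) : MSec C W₂) =
      (c ^ (d₁ + d₂) • i₁.val.app (op W₂) (p₁.val.app (op W₂) x₂) : MSec C W₂) := by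
    rw [show d₁ + d₂ + n = d₂ + (d₁ + n) by omega, show d₁ + d₂ = d₂ + d₁ by omega, pow_add c d₂ (d₁ + n), pow_add c d₂ d₁, mul_smul, mul_smul,
      ← DTorsLib.app_smul_eq (hloc 𝓘), ← DTorsLib.app_smul_eq (hloc 𝓘), ha', DTorsLib.app_smul_eq (hloc 𝓘),
      DTorsLib.app_smul_eq (hloc 𝓘)]
  have e2 : (c ^ (d₁ + d₂ + n) • i₂.val.app (op W₂) b : MSec C W₂) =
      (c ^ (d₁ + d₂) • i₂.val.app (op W₂) (p₂.val.app (op W₂) x₂) : MSec C W₂) := by
    rw [show d₁ + d₂ + n = d₁ + (d₂ + n) by omega, pow_add c d₁ (d₂ + n), pow_add c d₁ d₂, mul_smul, mul_smul,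
      ← DTorsLib.app_smul_eq (hloc 𝓘), ← DTorsLib.app_smul_eq (hloc 𝓘), hb', DTorsLib.app_smul_eq (hloc 𝓘),
      DTorsLib.app_smul_eq (hloc 𝓘)]
  rw [e1, e2, ← smul_add]
  refine congrArg (fun s : MSec C W₂ => (c ^ (d₁ + d₂) • s : MSec C W₂)) ?_
  exact congr($(congrArg (fun f : C ⟶ C => f.val.app (op W₂)) h) x₂)

/-- The torsion subcomplex of a complex of modules divisible by functions of the base, with torsion cohomology. -/
theorem quasiIso_gammaCxι_pre (K : CochainComplex (ModF (completionAlong X 𝓘) (hloc 𝓘).1) ℤ)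
    (hI : ∀ i, DivPre 𝓘 (K.X i)) (hK : ∀ n, FTors.IsTorsF (completionAlong X 𝓘) (hloc 𝓘).1 (K.homology n)) :
    QuasiIso (DTorsLib.gammaCxι (hloc 𝓘) K) :=
  DTorsLib.quasiIso_gammaCxι_of_divList (hloc 𝓘) (fun U y hy => by
    obtain ⟨D, hyD, -, hDU⟩ := exists_affine_nhd 𝓘 hy (show completionToX X 𝓘 0 y ∈ (⊤ : X.Opens) from trivial)
    obtain ⟨S, hS₁, hS₂⟩ := exists_funcs 𝓘 D
    exact ⟨pre 𝓘 D, _, isAffineOpen_pre 𝓘 D, hyD, hDU, hS₁, hS₂, fun i => hI i D S.toList⟩) hK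

/-- The torsion functor preserves quasi-isomorphisms to injective complexes from pulled back injective complexes. -/
theorem quasiIso_gammaT_map_pre {K L : CochainComplex (ModF (completionAlong X 𝓘) (hloc 𝓘).1) ℤ} (f : K ⟶ L)
    [QuasiIso f] (hK : ∀ i, DivPre 𝓘 (K.X i)) (hL : ∀ i, DivPre 𝓘 (L.X i)) :
    QuasiIso (((FTors.gammaT (completionAlong X 𝓘) (hloc 𝓘).1).mapHomologicalComplex (ComplexShape.up ℤ)).map f) := by
  let C := CochainComplex.mappingCone f
  have hC : C.Acyclic := (DTorsLib.quasiIso_iff_acyclic_cone f).1 inferInstance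
  have hdiv : ∀ i, DivPre 𝓘 (C.X i) := fun i => by
    let e := HomologicalComplex.homotopyCofiber.XIsoBiprod f i (i + 1) rfl
    haveI := HomologicalComplex.HasHomotopyCofiber.hasBinaryBiproduct f i (i + 1) rfl
    refine divPre_of_split 𝓘 (biprod.inl ≫ e.inv) (biprod.inr ≫ e.inv) (e.hom ≫ biprod.fst) (e.hom ≫ biprod.snd)
      ?_ (hK (i + 1)) (hL i)
    rw [Category.assoc, Category.assoc, ← Preadditive.comp_add, ← Category.assoc biprod.fst, ← Category.assoc biprod.snd,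
      ← Preadditive.add_comp, biprod.total, Category.id_comp]
    exact e.hom_inv_id
  have hq : QuasiIso (DTorsLib.gammaCxι (hloc 𝓘) C) :=
    quasiIso_gammaCxι_pre 𝓘 C hdiv fun n => DTorsLib.isTors_isZero (hloc 𝓘) ((hC n).isZero_homology)
  rw [DTorsLib.quasiIso_iff_acyclic_cone]
  intro n
  have hz : IsZero ((DTorsLib.gammaCx (hloc 𝓘) C).homology n) :=
    (hC n).isZero_homology.of_iso (@isoOfQuasiIsoAt _ _ _ _ _ _ _ (DTorsLib.gammaCxι (hloc 𝓘) C) n _ _ (hq.quasiIsoAt n))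
  rw [HomologicalComplex.exactAt_iff_isZero_homology]
  exact hz.of_iso ((HomologicalComplex.homologyFunctor _ _ n).mapIso
    (CochainComplex.mappingCone.mapHomologicalComplexIso f (FTors.gammaT (completionAlong X 𝓘) (hloc 𝓘).1))).symm

variable [FTors.HasRgammaT (completionAlong X 𝓘) (hloc 𝓘).1]

/-- The derived torsion of a complex of modules divisible by functions of the base is its torsion. -/
theorem isIso_gUnit_pre (K : CochainComplex (ModF (completionAlong X 𝓘) (hloc 𝓘).1) ℤ)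
    (hK : ∀ i, DivPre 𝓘 (K.X i)) :
    IsIso ((DTorsLib.gUnit (hloc 𝓘)).app ((HomotopyCategory.quotient _ _).obj K)) := by
  let A := ModF (completionAlong X 𝓘) (hloc 𝓘).1
  obtain ⟨I, f, hI, hf, hinj⟩ := DerLib.KInjRes.exists_resolution K
  haveI : QuasiIso f := (HomologicalComplex.mem_quasiIso_iff _).1 hf.2
  haveI := quasiIso_gammaT_map_pre 𝓘 f hK fun i => haveI := hinj i; divPre_injective 𝓘 (I.X i)
  haveI := DTorsLib.isIso_gUnit (hloc 𝓘) I
  let t := (HomotopyCategory.quotient A (ComplexShape.up ℤ)).map f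
  haveI : IsIso (DerivedCategory.Qh.map t) := Localization.inverts DerivedCategory.Qh
    (HomotopyCategory.quasiIso A (ComplexShape.up ℤ)) _
    ((HomotopyCategory.quotient_map_mem_quasiIso_iff f).2 ((HomologicalComplex.mem_quasiIso_iff _).2 inferInstance))
  haveI : IsIso ((FTors.gammaKh (FTors.openIdealFam (completionAlong X 𝓘) (hloc 𝓘).1)).map t) := by
    show IsIso (DerivedCategory.Qh.map ((HomotopyCategory.quotient _ _).map
      (((FTors.gammaT (completionAlong X 𝓘) (hloc 𝓘).1).mapHomologicalComplex _).map f)))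
    exact Localization.inverts DerivedCategory.Qh
      (HomotopyCategory.quasiIso A (ComplexShape.up ℤ)) _
      ((HomotopyCategory.quotient_map_mem_quasiIso_iff _).2 ((HomologicalComplex.mem_quasiIso_iff _).2 inferInstance))
  haveI : IsIso ((DerivedCategory.Qh ⋙ FTors.RgammaT (completionAlong X 𝓘) (hloc 𝓘).1).map t) :=
    inferInstanceAs (IsIso ((FTors.RgammaT (completionAlong X 𝓘) (hloc 𝓘).1).map (DerivedCategory.Qh.map t)))
  haveI : IsIso ((FTors.gammaKh (FTors.openIdealFam (completionAlong X 𝓘) (hloc 𝓘).1)).map t ≫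
      (DTorsLib.gUnit (hloc 𝓘)).app ((HomotopyCategory.quotient _ _).obj I)) := inferInstance
  exact IsIso.of_isIso_fac_right ((DTorsLib.gUnit (hloc 𝓘)).naturality t).symm

end CmplTorsLib
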