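import Groth.Agent.CmplTorsLib.Funcs

/-!
# Divisibility for pullbacks of injective modules to a completion
-/

set_option autoImplicit false
set_option linter.unusedSectionVars false
set_option maxHeartbeats 800000

noncomputable section

universe u

open CategoryTheory CategoryTheory.Limits TopologicalSpace Opposite AlgebraicGeometry FSch
open FModLib (MSec RSec oK mres rres lc)

namespace CmplTorsLib

variable {X : Scheme.{u}} [IsLocallyNoetherian X] (𝓘 : X.IdealSheafData)

/-- In an injective module on a locally Noetherian scheme, a bounded power of a function times a section killed by given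
functions is a high multiple of such a section. -/
theorem exists_divide_scheme (D : X.affineOpens) {ι : Type u} [Fintype ι] (z : ι → Γ(X, D.1)) (t : Γ(X, D.1)) :
    ∃ N : ℕ, ∀ (M : ModSite.Mod X.sheaf) [Injective M] (U : X.Opens) (hU : U ≤ D.1) (m : MSec M U),
      (∀ l, (rres X.sheaf hU (z l) • m : MSec M U) = 0) → ∀ n : ℕ, ∃ m' : MSec M U,
        (∀ l, (rres X.sheaf hU (z l) • m' : MSec M U) = 0) ∧
          (rres X.sheaf hU (t ^ (N + n)) • m' : MSec M U) = (rres X.sheaf hU (t ^ N) • m : MSec M U) := by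
  classical
  have : IsNoetherianRing Γ(X, D.1) := IsLocallyNoetherian.component_noetherian D
  obtain ⟨N, hN⟩ := DTorsLib.exists_stable_colon (Ideal.span (Set.range z)) t
  refine ⟨N, fun M _ U hU m hm n => ?_⟩
  let ρ : ∀ {V : X.Opens}, V ≤ D.1 → Γ(X, D.1) →+* RSec X.sheaf V := fun h => (X.presheaf.map (homOfLE h).op).hom
  let tt : Option ι → RSec X.sheaf U := fun i => i.elim (ρ hU (t ^ (N + n))) fun l => ρ hU (z l)
  let ss : Option ι → MSec M U := fun i => i.elim (rres X.sheaf hU (t ^ N) • m : MSec M U) fun _ => 0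
  obtain ⟨m', hm'⟩ := DTorsLib.exists_smul_eq_of_injective tt ss fun V hV c hc => by
    have hVD := hV.trans hU
    have h1 : c none * ρ hVD (t ^ (N + n)) + ∑ l, c (some l) * ρ hVD (z l) = 0 := by
      rw [Fintype.sum_option] at hc
      refine Eq.trans ?_ hc
      exact congrArg₂ (fun p q => p + q)
        (congrArg (fun q => c none * q) (FModLib.rres_rres (O := X.sheaf) hV hU (t ^ (N + n))).symm)
        (Finset.sum_congr rfl fun l _ => congrArg (fun q => c (some l) * q)
          (FModLib.rres_rres (O := X.sheaf) hV hU (z l)).symm)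
    suffices h : ((c none * ρ hVD (t ^ N)) • mres M hV m : MSec M V) = 0 by
      refine (Fintype.sum_option fun i => (c i • mres M hV (ss i) : MSec M V)).trans ?_
      refine (congrArg₂ (fun p q => p + q) ?_ (Finset.sum_eq_zero fun l _ => ?_)).trans (add_zero _)
      · refine Eq.trans ?_ h
        refine (congrArg (fun q : MSec M V => (c none • q : MSec M V))
          (PresheafOfModules.map_smul M.val (homOfLE hV).op _ m)).trans ?_
        refine (congrArg (fun q : RSec X.sheaf V => (c none • (q • mres M hV m) : MSec M V))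
          (FModLib.rres_rres (O := X.sheaf) hV hU (t ^ N))).trans ?_
        exact (mul_smul _ _ _).symm
      · exact (congrArg (fun q : MSec M V => (c (some l) • q : MSec M V)) (map_zero _)).trans (smul_zero _)
    refine FCohLib.eq_zero_of_points M _ fun x hx => ?_
    obtain ⟨g, hgV, hxg⟩ := D.2.exists_basicOpen_le ⟨x, hx⟩ (hVD hx)
    let B := X.basicOpen g
    have hBD : B ≤ D.1 := X.basicOpen_le g
    refine ⟨B, hgV, hxg, (PresheafOfModules.map_smul M.val (homOfLE hgV).op _ _).trans ?_⟩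
    have := D.2.isLocalization_basicOpen g
    letI : Algebra Γ(X, D.1) Γ(X, B) := (X.presheaf.map (homOfLE hBD).op).hom.toAlgebra
    let ρB : RSec X.sheaf V →+* RSec X.sheaf B := (X.presheaf.map (homOfLE hgV).op).hom
    have hρB : ∀ a, ρB (ρ hVD a) = ρ hBD a := fun a => FModLib.rres_rres (O := X.sheaf) hgV hVD a
    have hmem : (show Γ(X, B) from ρB (c none * ρ hVD (t ^ (N + n)))) ∈
        Ideal.map (algebraMap Γ(X, D.1) Γ(X, B)) (Ideal.span (Set.range z)) := by
      have h2 : ρB (c none * ρ hVD (t ^ (N + n))) = - ∑ l, ρB (c (some l)) * ρ hBD (z l) := by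
        rw [eq_neg_of_add_eq_zero_left h1, map_neg, map_sum]
        exact congrArg Neg.neg (Finset.sum_congr rfl fun l _ => by rw [map_mul, hρB])
      rw [h2]
      exact neg_mem (Ideal.sum_mem _ fun l _ => Ideal.mul_mem_left _ _
        (Ideal.mem_map_of_mem _ (Ideal.subset_span ⟨l, rfl⟩)))
    obtain ⟨⟨a₀, ⟨_, k, rfl⟩⟩, he⟩ := IsLocalization.surj (Submonoid.powers g) (show Γ(X, B) from ρB (c none))
    have hunit : IsUnit (ρ hBD g) := IsLocalization.map_units (S := Γ(X, B)) ⟨g, Submonoid.mem_powers g⟩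
    have h3 : algebraMap Γ(X, D.1) Γ(X, B) (a₀ * t ^ (N + n)) ∈
        Ideal.map (algebraMap Γ(X, D.1) Γ(X, B)) (Ideal.span (Set.range z)) := by
      rw [map_mul, ← he]
      have h4 : ρB (c none * ρ hVD (t ^ (N + n))) = ρB (c none) * ρ hBD (t ^ (N + n)) :=
        (map_mul ρB _ _).trans (congrArg (fun q => ρB (c none) * q) (hρB _))
      rw [h4] at hmem
      have h5 := Ideal.mul_mem_left _ (algebraMap Γ(X, D.1) Γ(X, B) (g ^ k)) hmem
      refine (congrArg (fun q => q ∈ Ideal.map (algebraMap Γ(X, D.1) Γ(X, B)) (Ideal.span (Set.range z))) ?_).mpr h5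
      have eq3 : ∀ p q r : Γ(X, B), p * q * r = q * (p * r) := fun p q r => by ring
      exact eq3 _ _ _
    obtain ⟨⟨⟨w, hw⟩, ⟨_, k', rfl⟩⟩, hwe⟩ := (IsLocalization.mem_map_algebraMap_iff (Submonoid.powers g) Γ(X, B)).1 h3
    rw [← map_mul] at hwe
    obtain ⟨⟨_, k'', rfl⟩, hk⟩ := IsLocalization.exists_of_eq (M := Submonoid.powers g) (S := Γ(X, B)) hwe
    have hI : t ^ (N + n) * (g ^ k'' * g ^ k' * a₀) ∈ Ideal.span (Set.range z) := by
      have : g ^ k'' * (a₀ * t ^ (N + n) * g ^ k') = t ^ (N + n) * (g ^ k'' * g ^ k' * a₀) := by ring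
      rw [← this, show g ^ k'' * (a₀ * t ^ (N + n) * g ^ k') = g ^ k'' * w from hk]
      exact Ideal.mul_mem_left _ _ hw
    have hI' := hN n _ hI
    have hkill : ∀ a ∈ Ideal.span (Set.range z), (ρ hBD a • mres M hgV (mres M hV m) : MSec M B) = 0 := by
      intro a ha
      induction ha using Submodule.span_induction with
      | mem a ha =>
        obtain ⟨l, rfl⟩ := ha
        have h6 := congrArg (mres M hgV) (congrArg (mres M hV) (hm l))
        refine Eq.trans ?_ (h6.trans ((congrArg (mres M hgV) (map_zero _)).trans (map_zero _)))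
        refine Eq.trans ?_ (congrArg (mres M hgV) (PresheafOfModules.map_smul M.val (homOfLE hV).op _ m)).symm
        refine Eq.trans ?_ (PresheafOfModules.map_smul M.val (homOfLE hgV).op _ _).symm
        refine congrArg (fun q : RSec X.sheaf B => (q • mres M hgV (mres M hV m) : MSec M B)) ?_
        exact ((FModLib.rres_rres (O := X.sheaf) hgV hVD (z l)).symm.trans
          (congrArg ρB (FModLib.rres_rres (O := X.sheaf) hV hU (z l)).symm))
      | zero => rw [map_zero, zero_smul]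
      | add p q _ _ hp hq => rw [map_add, add_smul, hp, hq, add_zero]
      | smul e p _ hp => rw [smul_eq_mul, map_mul, mul_smul, hp, smul_zero]
    have h7 := hkill _ hI'
    have hfac : ρ hBD (t ^ N * (g ^ k'' * g ^ k' * a₀)) =
        ρ hBD (g ^ k'' * g ^ k' * g ^ k) * (ρB (c none * ρ hVD (t ^ N))) := by
      have he' : ρB (c none) * ρ hBD (g ^ k) = ρ hBD a₀ := he
      rw [map_mul ρB, hρB, map_mul, map_mul, map_mul, map_mul, map_mul, ← he']
      ring
    rw [hfac, mul_smul] at h7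
    have hu : IsUnit (ρ hBD (g ^ k'' * g ^ k' * g ^ k)) := by
      simp only [map_mul, map_pow]
      exact ((hunit.pow _).mul (hunit.pow _)).mul (hunit.pow _)
    obtain ⟨uu, huu⟩ := hu
    let v : MSec M B :=
      (ρB (c none * ρ hVD (t ^ N)) • (show MSec M B from mres M hgV (mres M hV m)) : MSec M B)
    have h7' : ((uu : RSec X.sheaf B) • v : MSec M B) = 0 := by rw [huu]; exact h7
    have h8 : v = 0 := by
      have := congrArg (fun q : MSec M B => ((↑uu⁻¹ : RSec X.sheaf B) • q : MSec M B)) h7'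
      simp only [smul_smul, Units.inv_mul, one_smul, smul_zero] at this
      exact this
    exact h8
  exact ⟨m', fun l => hm' (some l), hm' none⟩

/-- Pullbacks of injective modules are divisible for lists of functions of the base. -/
theorem divList_pull (D : X.affineOpens) (L₀ : List Γ(X, D.1)) (I : ModSite.Mod X.sheaf) [Injective I] :
    DTorsLib.DivList (hloc 𝓘) ((kap 𝓘 (hloc 𝓘).1).pull.obj I) (L₀.map (σ 𝓘 (hloc 𝓘).1 D)) := by
  classical
  intro t L hsuf W hW x hx n y hy
  let O := (completionAlong X 𝓘).Osh (hloc 𝓘).1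
  let P := (kap 𝓘 (hloc 𝓘).1).pull.obj I
  obtain ⟨a, -, rfl⟩ := List.mem_map.1 (hsuf.subset List.mem_cons_self)
  have hb' : ∀ z : L.toFinset, ∃ b : Γ(X, D.1), σ 𝓘 (hloc 𝓘).1 D b = z.1 := fun z => by
    obtain ⟨b, -, hb⟩ := List.mem_map.1 (hsuf.subset (List.mem_cons_of_mem _ (List.mem_toFinset.1 z.2)))
    exact ⟨b, hb⟩
  choose b hb using hb'
  obtain ⟨W₁, h₁, e, hy₁, he⟩ := hx y hy
  have hpow : ∀ (c : Γ(X, D.1)) {V : ((completionAlong X 𝓘).X 0).Opens} (h : V ≤ pre 𝓘 D) (j : ℕ),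
      rres O h (σ 𝓘 (hloc 𝓘).1 D (c ^ j)) = rres O h (σ 𝓘 (hloc 𝓘).1 D c) ^ j := fun c V h j =>
    (congrArg (rres O h) (map_pow (FComplLib.secMap 𝓘 (hloc 𝓘).1 D.1).hom c j)).trans
      (map_pow (O.obj.map (homOfLE h).op).hom _ j)
  obtain ⟨U, hU, hUW, k, c, m, hyU, hm, hs⟩ := exists_local_killed 𝓘 (hloc 𝓘).1 I D
    (fun z : L.toFinset => b z ^ e) (h₁.trans hW) (mres P h₁ x) (fun z => by
      rw [hpow, hb]
      exact he z.1 (List.mem_toFinset.1 z.2)) hy₁
  obtain ⟨N, hN⟩ := exists_divide_scheme D (fun z : L.toFinset => b z ^ e) a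
  choose m' hm' hm'' using fun j => hN I U hU (m j) (hm j) n
  let η' := fun j => eta 𝓘 (hloc 𝓘).1 I (m' j)
  refine ⟨pre 𝓘 U, hUW.trans h₁, N, ∑ j, (c j • η' j : MSec P (pre 𝓘 U)), hyU,
    fun q hq => ⟨pre 𝓘 U, le_rfl, e, hq, fun z hz => ?_⟩, ?_⟩
  · rw [IndCohLib.mres_self, Finset.smul_sum]
    refine Finset.sum_eq_zero fun j _ => ?_
    rw [smul_comm]
    refine (congrArg (fun q : MSec P (pre 𝓘 U) => (c j • q : MSec P (pre 𝓘 U))) ?_).trans (smul_zero _)
    rw [show z = σ 𝓘 (hloc 𝓘).1 D (b ⟨z, List.mem_toFinset.2 hz⟩) from (hb ⟨z, List.mem_toFinset.2 hz⟩).symm, ← hpow]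
    refine (congrArg (fun q : RSec O (pre 𝓘 U) => (q • η' j : MSec P (pre 𝓘 U))) (σ_res 𝓘 (hloc 𝓘).1 hU _).symm).trans ?_
    refine (eta_smul 𝓘 (hloc 𝓘).1 I _ _).symm.trans ((congrArg (eta 𝓘 (hloc 𝓘).1 I) (hm' j _)).trans ?_)
    exact map_zero (((kap 𝓘 (hloc 𝓘).1).adj.unit.app I).val.app (op U)).hom
  · rw [← FModLib.mres_mres P hUW h₁ x, hs, Finset.smul_sum, Finset.smul_sum]
    refine Finset.sum_congr rfl fun j _ => ?_
    rw [smul_comm _ (c j) _, smul_comm _ (c j) _, ← hpow, ← hpow]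
    refine congrArg (fun q : MSec P (pre 𝓘 U) => (c j • q : MSec P (pre 𝓘 U))) ?_
    refine (congrArg (fun q : RSec O (pre 𝓘 U) => (q • η' j : MSec P (pre 𝓘 U))) (σ_res 𝓘 (hloc 𝓘).1 hU _).symm).trans ?_
    refine (eta_smul 𝓘 (hloc 𝓘).1 I _ _).symm.trans ((congrArg (eta 𝓘 (hloc 𝓘).1 I) (hm'' j)).trans ?_)
    exact (eta_smul 𝓘 (hloc 𝓘).1 I _ _).trans
      (congrArg (fun q : RSec O (pre 𝓘 U) => (q • eta 𝓘 (hloc 𝓘).1 I (m j) : MSec P (pre 𝓘 U))) (σ_res 𝓘 (hloc 𝓘).1 hU _))

end CmplTorsLib
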