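import Groth.Agent.CmplTorsLib.GammaPull
import Groth.Agent.DerLib.KInjDerived
import Groth.Agent.DerLib.ExactHomology
import Groth.Prelude.Def_SiteCmp

/-!
# The derived adjunction of a completion morphism
-/

set_option autoImplicit false
set_option linter.unusedSectionVars false
set_option linter.style.haveILetI false
set_option maxHeartbeats 800000

noncomputable section

universe u

open CategoryTheory CategoryTheory.Limits TopologicalSpace Opposite AlgebraicGeometry FSch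
open Groth.Agent
open FModLib (MSec RSec oK mres rres)

attribute [local instance] HasDerivedCategory.standard

namespace CmplTorsLib

variable {X : Scheme.{u}} [IsLocallyNoetherian X] (𝓘 : X.IdealSheafData)

/-- The direct image from a completion is exact on the right. -/
theorem epi_push {M N : ModF (completionAlong X 𝓘) (hloc 𝓘).1} (φ : M ⟶ N) [Epi φ] :
    Epi ((kap 𝓘 (hloc 𝓘).1).push.map φ) := by
  refine _root_.ModSiteLib.epi_of_loc_surjective _ fun U t => ?_
  let S : Sieve U :=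
    ⟨fun U' => {g : U' ⟶ U | ∃ s, ((kap 𝓘 (hloc 𝓘).1).push.map φ).val.app (op U') s =
      ((kap 𝓘 (hloc 𝓘).1).push.obj N).val.map g.op t}, fun {U' U''} g hg k => by
      obtain ⟨s, hs⟩ := hg
      refine ⟨((kap 𝓘 (hloc 𝓘).1).push.obj M).val.map k.op s,
        (PresheafOfModules.naturality_apply ((kap 𝓘 (hloc 𝓘).1).push.map φ).val k.op s).trans ?_⟩
      exact (congrArg (((kap 𝓘 (hloc 𝓘).1).push.obj N).val.map k.op) hs).trans
        (((kap 𝓘 (hloc 𝓘).1).push.obj N).val.presheaf.map_comp_apply g.op k.op t).symm⟩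
  refine ⟨S, fun x hx => ?_, fun _ _ hg => hg⟩
  by_cases hr : x ∈ Set.range (completionToX X 𝓘 0).base
  · obtain ⟨y, rfl⟩ := hr
    obtain ⟨W, hW, s, hyW, hs⟩ := IndCohLib.exists_loc_lift (hloc 𝓘) φ (show MSec N (pre 𝓘 U) from t) hx
    obtain ⟨D, hyD, hD, hDW⟩ := exists_affine_nhd 𝓘 hyW hx
    refine ⟨D, homOfLE hD, ⟨mres M hDW s, ?_⟩, hyD⟩
    show φ.val.app (op (pre 𝓘 D)) (mres M hDW s) = mres N (pre_mono 𝓘 hD) (show MSec N (pre 𝓘 U) from t)
    rw [IndCohLib.app_mres (hloc 𝓘), hs, FModLib.mres_mres]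
  · let O : X.Opens := ⟨(Set.range (completionToX X 𝓘 0).base)ᶜ,
      (completionToX X 𝓘 0).isClosedEmbedding.isClosed_range.isOpen_compl⟩
    refine ⟨U ⊓ O, homOfLE inf_le_left, ⟨0, ?_⟩, ⟨hx, hr⟩⟩
    refine sub_eq_zero.1 (show (φ.val.app (op (pre 𝓘 (U ⊓ O))) 0 - _ : MSec N (pre 𝓘 (U ⊓ O))) = 0 from
      FCohLib.eq_zero_of_points N _ fun y hy => ((show completionToX X 𝓘 0 y ∈ U ⊓ O from hy).2 ⟨y, rfl⟩).elim)

instance preservesFiniteLimits_push : PreservesFiniteLimits (kap 𝓘 (hloc 𝓘).1).push :=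
  haveI : PreservesLimitsOfSize.{0, 0} (kap 𝓘 (hloc 𝓘).1).push := (kap 𝓘 (hloc 𝓘).1).adj.rightAdjoint_preservesLimits
  inferInstance

theorem preservesFiniteColimits_push : PreservesFiniteColimits (kap 𝓘 (hloc 𝓘).1).push := by
  let R := (kap 𝓘 (hloc 𝓘).1).push
  have : R.Additive := (kap 𝓘 (hloc 𝓘).1).adj.right_adjoint_additive
  have : R.PreservesEpimorphisms := ⟨fun φ _ => epi_push 𝓘 φ⟩
  have : R.PreservesHomology := Functor.preservesHomology_of_preservesEpis_and_kernels R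
  exact Functor.preservesFiniteColimits_of_preservesHomology R

theorem isTorsZp_of_iso {M N : ModSite.Mod X.sheaf} (e : M ≅ N) (h : FTors.IsTorsZp X 𝓘 M) :
    FTors.IsTorsZp X 𝓘 N := fun U s => by
  rw [show s = e.hom.val.app (op U) (e.inv.val.app (op U) s) from
    (congr(($(e.inv_hom_id)).val.app (op U) s)).symm]
  exact (h U (e.inv.val.app (op U) s)).hom e.hom

/-- A map of short complexes induced by a natural isomorphism on homology gives a quasi-isomorphism. -/
theorem quasiIso_app {A B : Type*} [Category A] [Category B] [Abelian A] [Abelian B] {F G : A ⥤ B}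
    [F.Additive] [G.Additive] [F.PreservesHomology] [G.PreservesHomology] (τ : F ⟶ G)
    (K : CochainComplex A ℤ) (h : ∀ n, IsIso (τ.app (K.homology n))) :
    QuasiIso ((NatTrans.mapHomologicalComplex τ (ComplexShape.up ℤ)).app K) := by
  refine ⟨fun n => ?_⟩
  rw [quasiIsoAt_iff, ShortComplex.quasiIso_iff]
  show IsIso (ShortComplex.homologyMap ((K.sc n).mapNatTrans τ))
  haveI : IsIso (τ.app (K.sc n).homology) := h n
  haveI : IsIso (((K.sc n).mapHomologyIso F).inv ≫ ShortComplex.homologyMap ((K.sc n).mapNatTrans τ) ≫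
      ((K.sc n).mapHomologyIso G).hom) := by rw [← NatTrans.app_homology]; infer_instance
  haveI : IsIso (ShortComplex.homologyMap ((K.sc n).mapNatTrans τ) ≫ ((K.sc n).mapHomologyIso G).hom) :=
    IsIso.of_isIso_comp_left ((K.sc n).mapHomologyIso F).inv _
  exact IsIso.of_isIso_comp_right _ ((K.sc n).mapHomologyIso G).hom

theorem isTorsZp_hModIso (K : CochainComplex (ModSite.Mod X.sheaf) ℤ) (n : ℤ)
    (h : FTors.IsDTorsZp X 𝓘 (DerivedCategory.Qh.obj ((HomotopyCategory.quotient _ _).obj K))) :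
    FTors.IsTorsZp X 𝓘 (K.homology n) :=
  isTorsZp_of_iso 𝓘 ((DerivedCategory.homologyFunctorFactorsh (ModSite.Mod X.sheaf) n).app _ ≪≫
    (HomotopyCategory.homologyFunctorFactors (ModSite.Mod X.sheaf) (ComplexShape.up ℤ) n).app K) (h n)

theorem isDTorsZp_of_iso {E F : DerivedCategory (ModSite.Mod X.sheaf)} (e : E ≅ F) (h : FTors.IsDTorsZp X 𝓘 E) :
    FTors.IsDTorsZp X 𝓘 F := fun n =>
  isTorsZp_of_iso 𝓘 ((DerivedCategory.homologyFunctor (ModSite.Mod X.sheaf) n).mapIso e) (h n)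

variable [PreservesFiniteLimits (kap 𝓘 (hloc 𝓘).1).pull] [SiteCmp.HasRpushD (kap 𝓘 (hloc 𝓘).1)]

/-- The unit of the total right derived direct image. -/
abbrev pushUnit : SiteCmp.pushKh (kap 𝓘 (hloc 𝓘).1) ⟶ DerivedCategory.Qh ⋙ SiteCmp.RpushD (kap 𝓘 (hloc 𝓘).1) :=
  (SiteCmp.pushKh (kap 𝓘 (hloc 𝓘).1)).totalRightDerivedUnit DerivedCategory.Qh
    (HomotopyCategory.quasiIso (ModF (completionAlong X 𝓘) (hloc 𝓘).1) (ComplexShape.up ℤ))

theorem isIso_pushUnit : IsIso (pushUnit 𝓘) := by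
  let R := (kap 𝓘 (hloc 𝓘).1).push
  let W := HomotopyCategory.quasiIso (ModF (completionAlong X 𝓘) (hloc 𝓘).1) (ComplexShape.up ℤ)
  haveI := preservesFiniteColimits_push 𝓘
  haveI : R.Additive := (kap 𝓘 (hloc 𝓘).1).adj.right_adjoint_additive
  haveI : R.mapDerivedCategory.IsRightDerivedFunctor R.mapDerivedCategoryFactorsh.inv W :=
    Functor.isRightDerivedFunctor_of_inverts _ _ R.mapDerivedCategoryFactorsh
  let e := Functor.rightDerivedUnique (SiteCmp.RpushD (kap 𝓘 (hloc 𝓘).1)) R.mapDerivedCategory (pushUnit 𝓘)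
    R.mapDerivedCategoryFactorsh.inv W
  have h : pushUnit 𝓘 ≫ Functor.whiskerLeft DerivedCategory.Qh e.hom = R.mapDerivedCategoryFactorsh.inv :=
    (Functor.rightDerivedNatTrans_fac _ _ _ _ W (Iso.refl _).hom).trans (Category.id_comp _)
  exact IsIso.of_isIso_fac_right h

/-- The derived adjunction. -/
def derAdj : SiteCmp.pullD (kap 𝓘 (hloc 𝓘).1) ⊣ SiteCmp.RpushD (kap 𝓘 (hloc 𝓘).1) :=
  DerLib.KInjDerived.derivedAdj (kap 𝓘 (hloc 𝓘).1).adj (SiteCmp.RpushD (kap 𝓘 (hloc 𝓘).1)) (pushUnit 𝓘)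
    (DerLib.KInjDerived.enoughKInj _)

/-- The derived unit is an isomorphism on complexes with power torsion cohomology. -/
theorem isIso_derUnit {F : DerivedCategory (ModSite.Mod X.sheaf)} (hF : FTors.IsDTorsZp X 𝓘 F) :
    IsIso ((derAdj 𝓘).unit.app F) := by
  obtain ⟨K, ⟨e⟩⟩ : ∃ K : CochainComplex (ModSite.Mod X.sheaf) ℤ,
      Nonempty (DerivedCategory.Qh.obj ((HomotopyCategory.quotient _ _).obj K) ≅ F) :=
    ⟨DerivedCategory.Q.objPreimage F, ⟨(DerivedCategory.quotientCompQhIso _).app _ ≪≫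
      DerivedCategory.Q.objObjPreimageIso F⟩⟩
  rw [← NatTrans.isIso_app_iff_of_iso _ e]
  let L := (kap 𝓘 (hloc 𝓘).1).pull
  let R := (kap 𝓘 (hloc 𝓘).1).push
  haveI := preservesFiniteColimits_push 𝓘
  haveI : R.Additive := (kap 𝓘 (hloc 𝓘).1).adj.right_adjoint_additive
  haveI : R.PreservesHomology := Functor.preservesHomologyOfExact R
  haveI : L.PreservesHomology := Functor.preservesHomologyOfExact L
  haveI : (L ⋙ R).PreservesHomology := Functor.preservesHomologyOfExact (L ⋙ R)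
  let u := ((DerLib.KInjDerived.mapHomologicalComplexAdj (kap 𝓘 (hloc 𝓘).1).adj (ComplexShape.up ℤ)).unit.app K)
  haveI : QuasiIso u := by
    haveI h := quasiIso_app (kap 𝓘 (hloc 𝓘).1).adj.unit K fun n =>
      isIso_unit 𝓘 (hloc 𝓘).1 (isTorsZp_hModIso 𝓘 K n (isDTorsZp_of_iso 𝓘 e.symm hF))
    haveI : IsIso ((Functor.mapHomologicalComplexIdIso (ModSite.Mod X.sheaf) (ComplexShape.up ℤ)).inv.app K) :=
      inferInstance
    have e2 : u = (Functor.mapHomologicalComplexIdIso (ModSite.Mod X.sheaf) (ComplexShape.up ℤ)).inv.app K ≫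
        (NatTrans.mapHomologicalComplex (kap 𝓘 (hloc 𝓘).1).adj.unit (ComplexShape.up ℤ)).app K :=
      HomologicalComplex.hom_ext _ _ fun i => (Category.id_comp _).symm
    rw [e2]
    exact (HomologicalComplex.mem_quasiIso_iff _).1 ((HomologicalComplex.quasiIso _ _).comp_mem _ _
      ((HomologicalComplex.mem_quasiIso_iff _).2 inferInstance) ((HomologicalComplex.mem_quasiIso_iff _).2 h))
  let qK := (HomotopyCategory.quotient (ModSite.Mod X.sheaf) (ComplexShape.up ℤ)).obj K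
  haveI := isIso_pushUnit 𝓘
  haveI : IsIso (DerivedCategory.Qh.map
      ((DerLib.KInjDerived.mapHomotopyCategoryAdj (kap 𝓘 (hloc 𝓘).1).adj (ComplexShape.up ℤ)).unit.app qK)) :=
    Localization.inverts DerivedCategory.Qh (HomotopyCategory.quasiIso _ _) _
      ((HomotopyCategory.quotient_map_mem_quasiIso_iff u).2 ((HomologicalComplex.mem_quasiIso_iff _).2 inferInstance))
  haveI : L.mapDerivedCategory.IsLeftDerivedFunctor L.mapDerivedCategoryFactorsh.hom
      (HomotopyCategory.quasiIso (ModSite.Mod X.sheaf) (ComplexShape.up ℤ)) :=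
    Functor.isLeftDerivedFunctor_of_inverts _ L.mapDerivedCategory L.mapDerivedCategoryFactorsh
  haveI : (L.mapDerivedCategory ⋙ SiteCmp.RpushD (kap 𝓘 (hloc 𝓘).1)).IsLeftDerivedFunctor
      ((Functor.associator _ _ _).inv ≫
        Functor.whiskerRight L.mapDerivedCategoryFactorsh.hom (SiteCmp.RpushD (kap 𝓘 (hloc 𝓘).1)))
      (HomotopyCategory.quasiIso (ModSite.Mod X.sheaf) (ComplexShape.up ℤ)) :=
    Functor.isLeftDerivedFunctor_of_inverts _ _
      ((Functor.associator _ _ _).symm ≪≫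
        Functor.isoWhiskerRight L.mapDerivedCategoryFactorsh (SiteCmp.RpushD (kap 𝓘 (hloc 𝓘).1)))
  have key := (DerLib.KInjDerived.mapHomotopyCategoryAdj (kap 𝓘 (hloc 𝓘).1).adj (ComplexShape.up ℤ)).derivedη_fac_app
    (HomotopyCategory.quasiIso (ModSite.Mod X.sheaf) (ComplexShape.up ℤ)) L.mapDerivedCategoryFactorsh.hom
    (pushUnit 𝓘) qK
  exact IsIso.of_isIso_fac_right key

/-- The derived counit is an isomorphism on complexes with torsion cohomology. -/
theorem isIso_derCounit {G : DerivedCategory (ModF (completionAlong X 𝓘) (hloc 𝓘).1)}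
    (hG : FTors.IsDTorsF (completionAlong X 𝓘) (hloc 𝓘).1 G) :
    IsIso ((derAdj 𝓘).counit.app G) := by
  obtain ⟨K, ⟨e⟩⟩ : ∃ K : CochainComplex (ModF (completionAlong X 𝓘) (hloc 𝓘).1) ℤ,
      Nonempty (DerivedCategory.Qh.obj ((HomotopyCategory.quotient _ _).obj K) ≅ G) :=
    ⟨DerivedCategory.Q.objPreimage G, ⟨(DerivedCategory.quotientCompQhIso _).app _ ≪≫
      DerivedCategory.Q.objObjPreimageIso G⟩⟩
  rw [← NatTrans.isIso_app_iff_of_iso _ e]
  let L := (kap 𝓘 (hloc 𝓘).1).pull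
  let R := (kap 𝓘 (hloc 𝓘).1).push
  haveI := preservesFiniteColimits_push 𝓘
  haveI : R.Additive := (kap 𝓘 (hloc 𝓘).1).adj.right_adjoint_additive
  haveI : R.PreservesHomology := Functor.preservesHomologyOfExact R
  haveI : L.PreservesHomology := Functor.preservesHomologyOfExact L
  haveI : (R ⋙ L).PreservesHomology := Functor.preservesHomologyOfExact (R ⋙ L)
  have hK := (DTorsLib.isDTorsF_Qh_iff (hloc 𝓘) K).1 (DTorsLib.isDTorsF_of_iso (hloc 𝓘) e.symm hG)
  let c := ((DerLib.KInjDerived.mapHomologicalComplexAdj (kap 𝓘 (hloc 𝓘).1).adj (ComplexShape.up ℤ)).counit.app K)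
  haveI : QuasiIso c := by
    haveI h := quasiIso_app (kap 𝓘 (hloc 𝓘).1).adj.counit K fun n => isIso_counit 𝓘 (hloc 𝓘).1 (hK n)
    have e2 : c = (NatTrans.mapHomologicalComplex (kap 𝓘 (hloc 𝓘).1).adj.counit (ComplexShape.up ℤ)).app K ≫
        (Functor.mapHomologicalComplexIdIso _ (ComplexShape.up ℤ)).hom.app K :=
      HomologicalComplex.hom_ext _ _ fun i => (Category.comp_id _).symm
    rw [e2]
    exact (HomologicalComplex.mem_quasiIso_iff _).1 ((HomologicalComplex.quasiIso _ _).comp_mem _ _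
      ((HomologicalComplex.mem_quasiIso_iff _).2 h) ((HomologicalComplex.mem_quasiIso_iff _).2 inferInstance))
  let qK := (HomotopyCategory.quotient (ModF (completionAlong X 𝓘) (hloc 𝓘).1) (ComplexShape.up ℤ)).obj K
  haveI := isIso_pushUnit 𝓘
  haveI := DerLib.KInjDerived.isRightDerived_comp (G := L) (SiteCmp.RpushD (kap 𝓘 (hloc 𝓘).1)) (pushUnit 𝓘)
    (DerLib.KInjDerived.enoughKInj _)
  haveI : IsIso (DerivedCategory.Qh.map
      ((DerLib.KInjDerived.mapHomotopyCategoryAdj (kap 𝓘 (hloc 𝓘).1).adj (ComplexShape.up ℤ)).counit.app qK)) :=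
    Localization.inverts DerivedCategory.Qh (HomotopyCategory.quasiIso _ _) _
      ((HomotopyCategory.quotient_map_mem_quasiIso_iff c).2 ((HomologicalComplex.mem_quasiIso_iff _).2 inferInstance))
  have key := (DerLib.KInjDerived.mapHomotopyCategoryAdj (kap 𝓘 (hloc 𝓘).1).adj (ComplexShape.up ℤ)).derivedε_fac_app
    (HomotopyCategory.quasiIso (ModF (completionAlong X 𝓘) (hloc 𝓘).1) (ComplexShape.up ℤ))
    L.mapDerivedCategoryFactorsh.hom (pushUnit 𝓘) qK
  exact IsIso.of_isIso_fac_left key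

end CmplTorsLib
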