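import Groth.Agent.CmplTorsLib.Germ
import Groth.Agent.CmplTorsLib.Alg
import Groth.Agent.FCohLib.CohIso

/-!
# Power torsion modules near a point
-/

set_option autoImplicit false
set_option linter.unusedSectionVars false

noncomputable section

universe u

open CategoryTheory CategoryTheory.Limits TopologicalSpace Opposite AlgebraicGeometry FSch
open FModLib (MSec RSec oK mres rres)
open FComplLib (secProj)

namespace CmplTorsLib

variable {X : Scheme.{u}} [IsLocallyNoetherian X] (𝓘 : X.IdealSheafData)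
  (hX : (completionAlong X 𝓘).IsFormal)

theorem map_pow_le {D D' : X.affineOpens} (h : (D' : X.Opens) ≤ D) (n : ℕ) :
    (𝓘.ideal D ^ n).map (X.presheaf.map (homOfLE h).op).hom = 𝓘.ideal D' ^ n := by
  rw [Ideal.map_pow]
  exact congrArg (· ^ n) (𝓘.map_ideal h)

theorem res_self {U : X.Opens} (a : Γ(X, U)) : X.presheaf.map (homOfLE (le_refl U)).op a = a :=
  congr($(X.presheaf.map_id (op U)) a)

theorem res_mem_powIdeal {D : X.affineOpens} {U : X.Opens} (h : U ≤ D) {n : ℕ} {a : Γ(X, D.1)}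
    (ha : a ∈ 𝓘.ideal D ^ n) : X.presheaf.map (homOfLE h).op a ∈ (FTors.powIdealFam X 𝓘).ideal n U := by
  refine (FTors.mem_powIdealFam_iff X 𝓘 n U _).2 fun W hW => ?_
  rw [← map_pow_le 𝓘 (hW.trans h) n]
  have e := (X.presheaf.map_comp_apply (homOfLE h).op (homOfLE hW).op a).symm
  rw [e]
  exact Ideal.mem_map_of_mem _ ha

/-- A section is killed on affine opens below a neighbourhood. -/
theorem exists_kill_nhd {N : ModSite.Mod X.sheaf} (hN : FTors.IsTorsZp X 𝓘 N) {U : X.Opens} (m : MSec N U)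
    {x : X} (hx : x ∈ U) :
    ∃ (W : X.Opens) (hW : W ≤ U) (n : ℕ), x ∈ W ∧
      ∀ (W' : X.Opens) (h : W' ≤ W) (a : RSec X.sheaf W'), a ∈ (FTors.powIdealFam X 𝓘).ideal n W' →
        (a • mres N (h.trans hW) m : MSec N W') = 0 := by
  obtain ⟨W, g, ⟨n, hn⟩, hxW⟩ := hN U m x hx
  refine ⟨W, g.le, n, hxW, fun W' h a ha => ?_⟩
  have h1 := hn (homOfLE h) a ha
  rw [← FModLib.mres_mres N h g.le m]
  exact h1

/-- The image of a killed section is killed. -/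
theorem killed_eta {N : ModSite.Mod X.sheaf} {U : X.Opens} (m : MSec N U) {n : ℕ}
    (hm : ∀ (W' : X.Opens) (h : W' ≤ U) (a : RSec X.sheaf W'), a ∈ (FTors.powIdealFam X 𝓘).ideal (n + 1) W' →
      (a • mres N h m : MSec N W') = 0) :
    IndCohLib.Killed (hloc 𝓘) n _ (eta 𝓘 hX N m) := fun V hV b hb => by
  refine FCohLib.eq_zero_of_points _ _ fun y hy => ?_
  obtain ⟨D, hyD, hDU, hDV⟩ := exists_affine_nhd 𝓘 hy (show completionToX X 𝓘 0 y ∈ U from hV hy)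
  refine ⟨pre 𝓘 D, hDV, hyD, ?_⟩
  refine (IndCohLib.mres_smul (hloc 𝓘) hDV b _).trans ?_
  rw [FModLib.mres_mres]
  have hb' := (proj_eq_zero_iff 𝓘 hX n D _).1 (IndCohLib.oK_eq_zero_res (hloc 𝓘) n hDV hb)
  have hle : (𝓘.ideal D ^ (n + 1)).map (FComplLib.secMap 𝓘 hX D.1).hom ≤
      Submodule.comap (LinearMap.toSpanSingleton _ _ (mres _ (hDV.trans hV) (eta 𝓘 hX N m) :
        MSec ((kap 𝓘 hX).pull.obj N) (pre 𝓘 D))) ⊥ := by
    refine Ideal.map_le_iff_le_comap.2 fun a ha => ?_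
    show (σ 𝓘 hX D a • mres _ (hDV.trans hV) (eta 𝓘 hX N m) : MSec ((kap 𝓘 hX).pull.obj N) (pre 𝓘 D)) = 0
    rw [show mres _ (hDV.trans hV) (eta 𝓘 hX N m) = eta 𝓘 hX N (mres N hDU m) from (eta_res 𝓘 hX N hDU m).symm,
      ← eta_smul]
    have h3 := res_mem_powIdeal 𝓘 (le_refl (D : X.Opens)) ha
    rw [res_self] at h3
    have h2 := hm D hDU a h3
    rw [h2]
    exact map_zero (((kap 𝓘 hX).adj.unit.app N).val.app (op D.1)).hom
  exact hle hb'

/-- The stalk map is an isomorphism modulo all powers. -/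
theorem exists_sH_sub (y : (completionAlong X 𝓘).X 0) (D₀ : X.affineOpens)
    (hy : completionToX X 𝓘 0 y ∈ (D₀ : X.Opens)) (n : ℕ) (s : (Oh 𝓘 hX).presheaf.stalk y) :
    ∃ r, s - sH 𝓘 hX y r ∈
      (((𝓘.ideal D₀).map (X.presheaf.germ D₀ _ hy).hom) ^ n).map (sH 𝓘 hX y).hom := by
  obtain ⟨V, hyV, b, rfl⟩ := (Oh 𝓘 hX).presheaf.exists_germ_eq (x := y) s
  obtain ⟨D, hyD, hD, hDV⟩ := exists_affine_nhd 𝓘 hyV hy
  obtain ⟨a, ha⟩ := exists_sub_proj_zero 𝓘 hX n D (rres _ hDV b)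
  refine ⟨X.presheaf.germ D _ hyD a, ?_⟩
  rw [sH_germ, ← TopCat.Presheaf.germ_res_apply (Oh 𝓘 hX).presheaf (homOfLE hDV) y hyD b, ← map_sub]
  have hle : (𝓘.ideal D ^ (n + 1)).map (FComplLib.secMap 𝓘 hX D.1).hom ≤
      ((((𝓘.ideal D₀).map (X.presheaf.germ D₀ _ hy).hom) ^ n).map (sH 𝓘 hX y).hom).comap
        ((Oh 𝓘 hX).presheaf.germ (pre 𝓘 D) y hyD).hom := by
    refine Ideal.map_le_iff_le_comap.2 fun a ha => ?_
    have h1 : sH 𝓘 hX y (X.presheaf.germ D _ hyD a) ∈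
        ((((𝓘.ideal D₀).map (X.presheaf.germ D₀ _ hy).hom) ^ n).map (sH 𝓘 hX y).hom) := by
      refine Ideal.mem_map_of_mem _ (Ideal.pow_le_pow_right (Nat.le_succ n) ?_)
      rw [← Ideal.map_pow, show X.presheaf.germ D₀ _ hy =
        X.presheaf.map (homOfLE hD).op ≫ X.presheaf.germ D _ hyD from (X.presheaf.germ_res _ _ _).symm,
        CommRingCat.hom_comp, ← Ideal.map_map, map_pow_le 𝓘 hD]
      exact Ideal.mem_map_of_mem _ ha
    rw [sH_germ] at h1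
    exact h1
  exact hle ((proj_eq_zero_iff 𝓘 hX n D _).1 ha)

theorem mem_of_sH_mem (y : (completionAlong X 𝓘).X 0) (D₀ : X.affineOpens)
    (hy : completionToX X 𝓘 0 y ∈ (D₀ : X.Opens)) (n : ℕ) (r : X.presheaf.stalk (completionToX X 𝓘 0 y))
    (hr : sH 𝓘 hX y r ∈ (((𝓘.ideal D₀).map (X.presheaf.germ D₀ _ hy).hom) ^ n).map (sH 𝓘 hX y).hom) :
    r ∈ ((𝓘.ideal D₀).map (X.presheaf.germ D₀ _ hy).hom) ^ n := by
  cases n with
  | zero => simp
  | succ n =>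
    let L : TopCat.Sheaf CommRingCat.{u} ((completionAlong X 𝓘).X 0).toTopCat :=
      (completionAlong X 𝓘).levelObj hX n
    let ψ : (Oh 𝓘 hX).presheaf.stalk y ⟶ L.presheaf.stalk y :=
      (TopCat.Presheaf.stalkFunctor CommRingCat.{u} y).map ((completionAlong X 𝓘).OshProj hX n).hom
    have hψ : ∀ (D : X.affineOpens) (hyD : completionToX X 𝓘 0 y ∈ (D : X.Opens)) (a : Γ(X, D.1)),
        ψ (sH 𝓘 hX y (X.presheaf.germ D _ hyD a)) =
          L.presheaf.germ (pre 𝓘 D) y hyD (secProj 𝓘 hX n D (σ 𝓘 hX D a)) := fun D hyD a => by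
      rw [sH_germ]
      exact TopCat.Presheaf.stalkFunctor_map_germ_apply (pre 𝓘 D) y hyD _ _
    have h0 : ψ (sH 𝓘 hX y r) = 0 := by
      refine RingHom.mem_ker.1 (Ideal.map_le_iff_le_comap.2 (fun j hj => ?_) hr)
      rw [← Ideal.map_pow] at hj
      suffices hK : ((𝓘.ideal D₀) ^ (n + 1)).map (X.presheaf.germ D₀ _ hy).hom ≤
          Ideal.comap (sH 𝓘 hX y).hom (RingHom.ker ψ.hom) from hK hj
      refine Ideal.map_le_iff_le_comap.2 fun a ha => ?_
      show ψ (sH 𝓘 hX y (X.presheaf.germ D₀ _ hy a)) = 0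
      rw [hψ, show secProj 𝓘 hX n D₀ (σ 𝓘 hX D₀ a) = 0 from (proj_eq_zero_iff 𝓘 hX n D₀ _).2
        (Ideal.mem_map_of_mem _ ha), map_zero]
    obtain ⟨U, hyU, a, rfl⟩ := X.presheaf.exists_germ_eq (x := completionToX X 𝓘 0 y) r
    obtain ⟨D₁, hyD₁, hD₁, -⟩ := exists_affine_nhd 𝓘 (show y ∈ (⊤ : ((completionAlong X 𝓘).X 0).Opens) from trivial)
      (show completionToX X 𝓘 0 y ∈ U ⊓ (D₀ : X.Opens) from ⟨hyU, hy⟩)
    rw [← TopCat.Presheaf.germ_res_apply X.presheaf (homOfLE (hD₁.trans inf_le_left)) _ hyD₁ a] at h0 ⊢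
    rw [hψ] at h0
    rw [← map_zero (L.presheaf.germ (pre 𝓘 D₁) y hyD₁).hom] at h0
    obtain ⟨V, hyV, i₁, i₂, he⟩ := L.presheaf.germ_eq y hyD₁ hyD₁ _ _ h0
    obtain ⟨D, hyD, hD, hDV⟩ := exists_affine_nhd 𝓘 hyV hyD₁
    rw [← TopCat.Presheaf.germ_res_apply X.presheaf (homOfLE hD) _ hyD]
    rw [← Ideal.map_pow, show X.presheaf.germ D₀ _ hy = X.presheaf.map (homOfLE (hD.trans (hD₁.trans inf_le_right))).op ≫
      X.presheaf.germ D _ hyD from (X.presheaf.germ_res _ _ _).symm,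
      CommRingCat.hom_comp, ← Ideal.map_map, map_pow_le]
    refine Ideal.mem_map_of_mem _ ?_
    have hmem := (mem_powIdeal_iff 𝓘 hX n D (X.presheaf.map (homOfLE hD).op
      (X.presheaf.map (homOfLE (hD₁.trans inf_le_left)).op a))).2 ?_
    · have h4 := (FTors.mem_powIdealFam_iff X 𝓘 (n + 1) D _).1 hmem D le_rfl
      rw [res_self] at h4
      exact h4
    rw [σ_res 𝓘 hX hD, proj_rres 𝓘 hX n hD]
    have e : (homOfLE (pre_mono 𝓘 hD)).op = i₁.op ≫ (homOfLE hDV).op := rfl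
    rw [e, Functor.map_comp_apply]
    exact (congrArg (L.presheaf.map (homOfLE hDV).op) (he.trans (map_zero (L.presheaf.map i₂.op).hom))).trans
      (map_zero (L.presheaf.map (homOfLE hDV).op).hom)

/-- The germ of a power torsion section survives in the completion. -/
theorem germ_inj {N : ModSite.Mod X.sheaf} (hN : FTors.IsTorsZp X 𝓘 N) (y : (completionAlong X 𝓘).X 0) {U : X.Opens}
    (hy : completionToX X 𝓘 0 y ∈ U) (m : MSec N U)
    (h : (FlatMorLib.prs (Oh 𝓘 hX) ((kap 𝓘 hX).pull.obj N)).germ (pre 𝓘 U) y hy (eta 𝓘 hX N m) = 0) :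
    (FlatMorLib.prs X.sheaf N).germ U _ hy m = 0 := by
  obtain ⟨D₀, hyD₀, -⟩ := exists_affine_le hy
  let x := completionToX X 𝓘 0 y
  let Nx := (FlatMorLib.stalk X.sheaf x).obj N
  let J : Ideal (X.sheaf.presheaf.stalk x) := (𝓘.ideal D₀).map (X.presheaf.germ D₀ x hyD₀).hom
  have htors : ∀ t : Nx, ∃ n, ∀ r : X.sheaf.presheaf.stalk x, r ∈ J ^ n → r • t = 0 := fun t => by
    obtain ⟨U', hxU', m', rfl⟩ := (FlatMorLib.prs X.sheaf N).exists_germ_eq (x := x) t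
    obtain ⟨W, hW, n, hxW, hn⟩ := exists_kill_nhd 𝓘 hN m' hxU'
    refine ⟨n, fun r hr => ?_⟩
    suffices hle : J ^ n ≤ LinearMap.ker (LinearMap.toSpanSingleton (X.sheaf.presheaf.stalk x) Nx
        ((FlatMorLib.prs X.sheaf N).germ U' x hxU' m' : Nx)) from hle hr
    show ((𝓘.ideal D₀).map (X.presheaf.germ D₀ x hyD₀).hom) ^ n ≤ _
    rw [← Ideal.map_pow]
    refine Ideal.map_le_iff_le_comap.2 fun a ha => ?_
    have hx' : x ∈ (D₀ : X.Opens) ⊓ W := ⟨hyD₀, hxW⟩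
    show (show X.sheaf.presheaf.stalk x from X.presheaf.germ D₀ x hyD₀ a) •
      (show Nx from (FlatMorLib.prs X.sheaf N).germ U' x hxU' m') = 0
    rw [← TopCat.Presheaf.germ_res_apply X.presheaf (homOfLE (inf_le_left : (D₀ : X.Opens) ⊓ W ≤ D₀)) x hx' a,
      ← TopCat.Presheaf.germ_res_apply (FlatMorLib.prs X.sheaf N)
        (homOfLE ((inf_le_right : (D₀ : X.Opens) ⊓ W ≤ W).trans hW)) x hx' m']
    refine (PresheafOfModules.germ_smul (R := X.sheaf.presheaf) (FlatMorLib.valC X.sheaf N) x _ hx' _ _).symm.trans ?_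
    exact (congrArg ((FlatMorLib.prs X.sheaf N).germ ((D₀ : X.Opens) ⊓ W) x hx')
      (hn _ inf_le_right _ (res_mem_powIdeal 𝓘 inf_le_left ha))).trans (map_zero _)
  obtain ⟨inst, hinst⟩ := exists_smul_of_powTorsion (R := X.sheaf.presheaf.stalk x) (sH 𝓘 hX y).hom J
    (exists_sH_sub 𝓘 hX y D₀ hyD₀) (mem_of_sH_mem 𝓘 hX y D₀ hyD₀) Nx htors
  let A : ModuleCat.{u} ((Oh 𝓘 hX).presheaf.stalk y) := @ModuleCat.of _ _ Nx _ inst
  let ρ : X.sheaf.presheaf.stalk x →+* (Oh 𝓘 hX).presheaf.stalk y := (sH 𝓘 hX y).hom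
  let g : Nx ⟶ (ModuleCat.restrictScalars ρ).obj A :=
    ModuleCat.ofHom (Y := (ModuleCat.restrictScalars ρ).obj A)
      { toFun := fun t => t
        map_add' := fun _ _ => rfl
        map_smul' := fun r t => (hinst r t).symm }
  obtain ⟨φ, hφ⟩ := exists_stalk_hom 𝓘 hX N y A g
  exact (hφ U hy m).symm.trans ((congrArg φ.hom h).trans (map_zero φ.hom))

/-- Every germ of the pullback of a power torsion module comes from below. -/
theorem germ_surj {N : ModSite.Mod X.sheaf} (hN : FTors.IsTorsZp X 𝓘 N) (y : (completionAlong X 𝓘).X 0)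
    (t : (FlatMorLib.stalk (Oh 𝓘 hX) y).obj ((kap 𝓘 hX).pull.obj N)) :
    ∃ (U : X.Opens) (hy : completionToX X 𝓘 0 y ∈ U) (m : MSec N U),
      (FlatMorLib.prs (Oh 𝓘 hX) ((kap 𝓘 hX).pull.obj N)).germ (pre 𝓘 U) y hy (eta 𝓘 hX N m) = t := by
  have ht : t ∈ (⊤ : Submodule ((Oh 𝓘 hX).presheaf.stalk y) _) := Submodule.mem_top
  rw [← stalk_span 𝓘 hX N y] at ht
  induction ht using Submodule.span_induction with
  | mem t h => exact h
  | zero =>
    refine ⟨⊤, trivial, 0, ?_⟩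
    exact (congrArg _ (map_zero (((kap 𝓘 hX).adj.unit.app N).val.app (op ⊤)).hom)).trans (map_zero _)
  | add p q _ _ hp hq =>
    obtain ⟨U, hU, m, rfl⟩ := hp
    obtain ⟨V, hV, m', rfl⟩ := hq
    refine ⟨U ⊓ V, ⟨hU, hV⟩, mres N inf_le_left m + mres N inf_le_right m', ?_⟩
    refine (congrArg _ (map_add (((kap 𝓘 hX).adj.unit.app N).val.app (op (U ⊓ V))).hom _ _)).trans ?_
    refine (map_add _ _ _).trans (congrArg₂ (fun a b => a + b) ?_ ?_)
    · exact (congrArg _ (eta_res 𝓘 hX N inf_le_left m)).trans (TopCat.Presheaf.germ_res_apply _ _ _ _ _)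
    · exact (congrArg _ (eta_res 𝓘 hX N inf_le_right m')).trans (TopCat.Presheaf.germ_res_apply _ _ _ _ _)
  | smul s p _ hp =>
    obtain ⟨U, hU, m, rfl⟩ := hp
    obtain ⟨W, hW, n, hxW, hn⟩ := exists_kill_nhd 𝓘 hN m hU
    obtain ⟨V, hyV, b, rfl⟩ := (Oh 𝓘 hX).presheaf.exists_germ_eq (x := y) s
    obtain ⟨D, hyD, hD, hDV⟩ := exists_affine_nhd 𝓘 hyV (show completionToX X 𝓘 0 y ∈ W from hxW)
    obtain ⟨a, ha⟩ := exists_sub_proj_zero 𝓘 hX n D (rres _ hDV b)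
    refine ⟨D, hyD, (a • mres N (hD.trans hW) m : MSec N D), ?_⟩
    have hk := killed_eta 𝓘 hX (mres N (hD.trans hW) m) (n := n) (fun W' h a ha => by
      rw [FModLib.mres_mres]
      exact hn W' (h.trans hD) a ((FTors.powIdealFam X 𝓘).antitone' n W' ha))
    have h0 := hk _ le_rfl _ ha
    rw [IndCohLib.mres_self, sub_smul] at h0
    refine (congrArg ((FlatMorLib.prs (Oh 𝓘 hX) ((kap 𝓘 hX).pull.obj N)).germ (pre 𝓘 D) y hyD)
      ((eta_smul 𝓘 hX N a _).trans (sub_eq_zero.1 h0).symm)).trans ?_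
    refine (PresheafOfModules.germ_smul (R := (Oh 𝓘 hX).presheaf) (FlatMorLib.valC (Oh 𝓘 hX) _) y _ hyD _ _).trans ?_
    refine congrArg₂ (fun (c : (Oh 𝓘 hX).presheaf.stalk y) z => c • z)
      (TopCat.Presheaf.germ_res_apply _ _ _ _ b) ?_
    exact (congrArg _ (eta_res 𝓘 hX N (hD.trans hW) m)).trans (TopCat.Presheaf.germ_res_apply _ _ _ _ _)

end CmplTorsLib
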