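import Groth.Agent.CmplTorsLib.AnnSec
import Groth.Agent.CmplTorsLib.Nhd
import Groth.Agent.DTorsLib.GammaCx

/-!
# Functions measuring torsion on a completion
-/

set_option autoImplicit false
set_option linter.unusedSectionVars false
set_option maxHeartbeats 400000

noncomputable section

universe u

open CategoryTheory CategoryTheory.Limits TopologicalSpace Opposite AlgebraicGeometry FSch
open FModLib (MSec RSec oK mres rres)

namespace CmplTorsLib

variable {X : Scheme.{u}} [IsLocallyNoetherian X] (𝓘 : X.IdealSheafData)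

/-- Restrictions of a power of the ideal generate the higher levels of the powers. -/
theorem powIdeal_le_span {D : X.affineOpens} {U : X.Opens} (h : U ≤ D.1) (n : ℕ) (b : RSec X.sheaf U)
    (hb : b ∈ (FTors.powIdealFam X 𝓘).ideal n U) {M : ModSite.Mod X.sheaf} (m : MSec M U)
    (hm : ∀ a ∈ 𝓘.ideal D ^ n, (rres X.sheaf h a • m : MSec M U) = 0) : (b • m : MSec M U) = 0 := by
  refine FCohLib.eq_zero_of_points M _ fun x hx => ?_
  obtain ⟨D', hxD, hD⟩ := exists_affine_le hx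
  refine ⟨D', hD, hxD, (PresheafOfModules.map_smul M.val (homOfLE hD).op b m).trans ?_⟩
  have h1 := (FTors.mem_powIdealFam_iff X 𝓘 n U b).1 hb D' hD
  rw [← map_pow_le 𝓘 (hD.trans h) n] at h1
  let ρ : Γ(X, D'.1) →+* RSec X.sheaf D'.1 := RingHom.id _
  suffices key : ∀ c ∈ (𝓘.ideal D ^ n).map (X.presheaf.map (homOfLE (hD.trans h)).op).hom,
      (ρ c • mres M hD m : MSec M D'.1) = 0 from key _ h1
  intro c hc
  induction hc using Submodule.span_induction with
  | mem c hc =>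
    obtain ⟨a, ha, rfl⟩ := hc
    have h2 := congrArg (mres M hD) (hm a ha)
    refine Eq.trans ?_ (h2.trans (map_zero _))
    refine Eq.trans ?_ (PresheafOfModules.map_smul M.val (homOfLE hD).op _ _).symm
    exact congrArg (fun q : RSec X.sheaf D'.1 => (q • mres M hD m : MSec M D'.1))
      (FModLib.rres_rres (O := X.sheaf) hD h a).symm
  | zero => exact (congrArg (fun q : RSec X.sheaf D'.1 => (q • mres M hD m : MSec M D'.1)) (map_zero ρ)).trans (zero_smul _ _)
  | add p q _ _ hp hq => rw [map_add, add_smul, hp, hq, add_zero]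
  | smul z p _ hp => rw [smul_eq_mul, map_mul, mul_smul, hp, smul_zero]

/-- Generators of the ideal as functions on the completion. -/
theorem exists_funcs (D : X.affineOpens) :
    ∃ S : Finset Γ(X, D.1),
      (∀ (M : ModF (completionAlong X 𝓘) (hloc 𝓘).1) (W : ((completionAlong X 𝓘).X 0).Opens) (hW : W ≤ pre 𝓘 D)
        (n : ℕ) (x : MSec M W), IndCohLib.Killed (hloc 𝓘) n M x →
        ∀ z ∈ S.toList.map (σ 𝓘 (hloc 𝓘).1 D),
          (rres ((completionAlong X 𝓘).Osh (hloc 𝓘).1) hW z ^ (n + 1) • x : MSec M W) = 0) ∧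
      ∀ e : ℕ, ∃ n : ℕ, ∀ (M : ModF (completionAlong X 𝓘) (hloc 𝓘).1) (W : ((completionAlong X 𝓘).X 0).Opens)
        (hW : W ≤ pre 𝓘 D) (x : MSec M W),
        (∀ z ∈ S.toList.map (σ 𝓘 (hloc 𝓘).1 D),
          (rres ((completionAlong X 𝓘).Osh (hloc 𝓘).1) hW z ^ e • x : MSec M W) = 0) →
        IndCohLib.Killed (hloc 𝓘) n M x := by
  classical
  have hN : IsNoetherianRing Γ(X, D.1) := IsLocallyNoetherian.component_noetherian D
  obtain ⟨S, hS⟩ := IsNoetherian.noetherian (𝓘.ideal D)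
  refine ⟨S, fun M W hW n x hx z hz => ?_, fun e => ?_⟩
  · obtain ⟨a, ha, rfl⟩ := List.mem_map.1 hz
    have haI : a ∈ 𝓘.ideal D := hS ▸ Submodule.subset_span (Finset.mem_toList.1 ha)
    have h0 : oK (hloc 𝓘).1 n (pre 𝓘 D) (σ 𝓘 (hloc 𝓘).1 D (a ^ (n + 1))) = 0 :=
      (proj_eq_zero_iff 𝓘 (hloc 𝓘).1 n D _).2 (Ideal.mem_map_of_mem _ (Ideal.pow_mem_pow haI (n + 1)))
    have h1 := hx W le_rfl _ (IndCohLib.oK_eq_zero_res (hloc 𝓘) n hW h0)
    rw [IndCohLib.mres_self] at h1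
    refine Eq.trans ?_ h1
    refine congrArg (fun q : RSec ((completionAlong X 𝓘).Osh (hloc 𝓘).1) W => (q • x : MSec M W)) ?_
    exact ((map_pow (((completionAlong X 𝓘).Osh (hloc 𝓘).1).obj.map (homOfLE hW).op).hom _ (n + 1)).symm.trans
      (congrArg (rres ((completionAlong X 𝓘).Osh (hloc 𝓘).1) hW)
        (map_pow (FComplLib.secMap 𝓘 (hloc 𝓘).1 D.1).hom a (n + 1)).symm))
  let J : Ideal Γ(X, D.1) := Ideal.span ((fun z => z ^ e) '' (S : Set Γ(X, D.1)))
  have hle : 𝓘.ideal D ≤ J.radical := by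
    rw [← hS]
    exact Submodule.span_le.2 fun z hz => ⟨e, Ideal.subset_span ⟨z, hz, rfl⟩⟩
  obtain ⟨n, hn⟩ := Ideal.exists_pow_le_of_le_radical_of_fg hle ⟨S, hS⟩
  refine ⟨n, fun M W hW x hx V hV b hb => ?_⟩
  let O := (completionAlong X 𝓘).Osh (hloc 𝓘).1
  refine FCohLib.eq_zero_of_points M _ fun y hy => ?_
  obtain ⟨D', hyD, hD, hDV⟩ := exists_affine_nhd 𝓘 hy (show completionToX X 𝓘 0 y ∈ D.1 from hW (hV hy))
  refine ⟨pre 𝓘 D', hDV, hyD, (IndCohLib.mres_smul (hloc 𝓘) hDV b _).trans ?_⟩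
  rw [FModLib.mres_mres]
  let x' := mres M (hDV.trans hV) x
  suffices key : ∀ c ∈ (𝓘.ideal D' ^ (n + 1)).map (FComplLib.secMap 𝓘 (hloc 𝓘).1 D'.1).hom,
      ((show RSec O (pre 𝓘 D') from c) • x' : MSec M (pre 𝓘 D')) = 0 from
    key _ ((proj_eq_zero_iff 𝓘 (hloc 𝓘).1 n D' _).1 (IndCohLib.oK_eq_zero_res (hloc 𝓘) n hDV hb))
  intro c hc
  let ρ : Γ(X, D.1) →+* RSec O (pre 𝓘 D') :=
    (FComplLib.secMap 𝓘 (hloc 𝓘).1 D'.1).hom.comp (X.presheaf.map (homOfLE hD).op).hom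
  have hc' : c ∈ (𝓘.ideal D ^ (n + 1)).map ρ := by
    rw [← map_pow_le 𝓘 hD, Ideal.map_map] at hc
    exact hc
  have hc'' : c ∈ J.map ρ := Ideal.map_mono ((Ideal.pow_le_pow_right (Nat.le_succ n)).trans hn) hc'
  rw [Ideal.map_span, ← Set.image_comp] at hc''
  clear hc hc'
  induction hc'' using Submodule.span_induction with
  | mem c hc =>
    obtain ⟨z, hz, rfl⟩ := hc
    have h2 := congrArg (mres M (hDV.trans hV)) (hx _ (List.mem_map.2 ⟨z, Finset.mem_toList.2 hz, rfl⟩))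
    refine Eq.trans ?_ (h2.trans (map_zero _))
    refine Eq.trans ?_ (IndCohLib.mres_smul (hloc 𝓘) (hDV.trans hV) _ _).symm
    refine congrArg (fun q : RSec O (pre 𝓘 D') => (q • x' : MSec M (pre 𝓘 D'))) ?_
    refine Eq.trans (map_pow ρ z e) (Eq.symm ?_)
    refine (map_pow (O.obj.map (homOfLE (hDV.trans hV)).op).hom _ e).trans (congrArg (· ^ e) ?_)
    exact (FModLib.rres_rres (O := O) (hDV.trans hV) hW _).trans (σ_res 𝓘 (hloc 𝓘).1 hD z).symm
  | zero => exact zero_smul _ _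
  | add p q _ _ hp hq => exact (add_smul _ _ _).trans ((congrArg₂ (fun a b => a + b) hp hq).trans (add_zero _))
  | smul z p _ hp =>
    exact (mul_smul z p x').trans ((congrArg (fun q : MSec M (pre 𝓘 D') => (z • q : MSec M (pre 𝓘 D'))) hp).trans (smul_zero z))

end CmplTorsLib
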