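import Groth.Agent.CmplTorsLib.Main
import Groth.Agent.FModLib.QPres
import Groth.Agent.IndCohLib.ToQC

/-!
# Pullbacks of quasi-coherent power torsion modules to a completion
-/

set_option autoImplicit false
set_option linter.unusedSectionVars false
set_option maxHeartbeats 800000

noncomputable section

universe u

open CategoryTheory CategoryTheory.Limits TopologicalSpace Opposite AlgebraicGeometry FSch
open FModLib (MSec RSec oK mres rres QPres)

namespace CmplTorsLib

/-- Vectors which near a point are combinations of given vectors. -/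
def LSpan {T : TopCat.{u}} (O : Sheaf (Opens.grothendieckTopology T) CommRingCat.{u}) {σ κ : Type u} {U : Opens T}
    (r : κ → σ → RSec O U) (y : T) {V : Opens T} (c : σ → RSec O V) : Prop :=
  ∃ (W : Opens T) (hWV : W ≤ V) (hWU : W ≤ U) (G : Finset κ) (d : κ → RSec O W), y ∈ W ∧
    ∀ i, rres O hWV (c i) = ∑ j ∈ G, d j * rres O hWU (r j i)

section

variable {T : TopCat.{u}} {O : Sheaf (Opens.grothendieckTopology T) CommRingCat.{u}} {σ κ : Type u} {U V : Opens T}
  {r : κ → σ → RSec O U} {y : T}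

theorem LSpan.add {c c' : σ → RSec O V} (h : LSpan O r y c) (h' : LSpan O r y c') : LSpan O r y (c + c') := by
  classical
  obtain ⟨W, hV, hU, G, d, hy, hd⟩ := h
  obtain ⟨W', hV', hU', G', d', hy', hd'⟩ := h'
  refine ⟨W ⊓ W', inf_le_left.trans hV, inf_le_left.trans hU, G ∪ G',
    fun j => (if j ∈ G then rres O inf_le_left (d j) else 0) + (if j ∈ G' then rres O inf_le_right (d' j) else 0),
    ⟨hy, hy'⟩, fun i => ?_⟩
  let ρ : ∀ {A B : Opens T}, A ≤ B → RSec O B →+* RSec O A := fun h => (O.obj.map (homOfLE h).op).hom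
  simp only [add_mul, Finset.sum_add_distrib, ite_mul, zero_mul]
  rw [Finset.sum_ite_mem, Finset.sum_ite_mem, Finset.union_inter_cancel_left, Finset.union_inter_cancel_right]
  refine (map_add (ρ (inf_le_left.trans hV)) (c i) (c' i)).trans (congrArg₂ (fun a b => a + b) ?_ ?_)
  · refine (FModLib.rres_rres inf_le_left hV (c i)).symm.trans ((congrArg (ρ inf_le_left) (hd i)).trans ?_)
    refine (map_sum (ρ (inf_le_left : W ⊓ W' ≤ W)) _ _).trans (Finset.sum_congr rfl fun j _ => ?_)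
    refine (map_mul (ρ (inf_le_left : W ⊓ W' ≤ W)) _ _).trans ?_
    exact congrArg (fun e => rres O (inf_le_left : W ⊓ W' ≤ W) (d j) * e) (FModLib.rres_rres inf_le_left hU (r j i))
  · refine (FModLib.rres_rres inf_le_right hV' (c' i)).symm.trans ((congrArg (ρ inf_le_right) (hd' i)).trans ?_)
    refine (map_sum (ρ (inf_le_right : W ⊓ W' ≤ W')) _ _).trans (Finset.sum_congr rfl fun j _ => ?_)
    refine (map_mul (ρ (inf_le_right : W ⊓ W' ≤ W')) _ _).trans ?_
    exact congrArg (fun e => rres O (inf_le_right : W ⊓ W' ≤ W') (d' j) * e) (FModLib.rres_rres inf_le_right hU' (r j i))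

theorem LSpan.zero (hy : y ∈ V) (hyU : y ∈ U) : LSpan O r y (0 : σ → RSec O V) :=
  ⟨V ⊓ U, inf_le_left, inf_le_right, ∅, 0, ⟨hy, hyU⟩, fun _ => by
    rw [Finset.sum_empty]; exact map_zero (O.obj.map _).hom⟩

theorem LSpan.smul (a : RSec O V) {c : σ → RSec O V} (h : LSpan O r y c) : LSpan O r y (fun i => a * c i) := by
  obtain ⟨W, hV, hU, G, d, hy, hd⟩ := h
  refine ⟨W, hV, hU, G, fun j => rres O hV a * d j, hy, fun i => ?_⟩
  refine (map_mul (O.obj.map (homOfLE hV).op).hom a (c i)).trans ?_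
  refine (congrArg (fun e => rres O hV a * e) (hd i)).trans ?_
  rw [Finset.mul_sum]
  exact Finset.sum_congr rfl fun j _ => (mul_assoc _ _ _).symm

theorem LSpan.sum {ι : Type*} (s : Finset ι) {c : ι → σ → RSec O V} (hy : y ∈ V) (hyU : y ∈ U)
    (h : ∀ l ∈ s, LSpan O r y (c l)) : LSpan O r y (∑ l ∈ s, c l) :=
  Finset.sum_induction _ (fun t => LSpan O r y t) (fun _ _ ha hb => ha.add hb) (LSpan.zero hy hyU) h

end

variable {X : Scheme.{u}} [IsLocallyNoetherian X] (𝓘 : X.IdealSheafData)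
  (hX : (completionAlong X 𝓘).IsFormal) {N : ModSite.Mod X.sheaf} {σs κ : Type u} {U : X.Opens}
  {s : σs → MSec N U} {r : κ → σs → RSec X.sheaf U}

theorem eta_sum (U' : X.Opens) (F : Finset σs) (a : σs → RSec X.sheaf U') (e : σs → MSec N U') :
    eta 𝓘 hX N (∑ i ∈ F, (a i • e i : MSec N U')) =
      ∑ i ∈ F, (σ 𝓘 hX U' (a i) • eta 𝓘 hX N (e i) : MSec ((kap 𝓘 hX).pull.obj N) (pre 𝓘 U')) :=
  (map_sum (((kap 𝓘 hX).adj.unit.app N).val.app (op U')).hom _ _).trans
    (Finset.sum_congr rfl fun i _ => eta_smul 𝓘 hX N (a i) (e i))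

/-- Presentations by sections of power torsion modules pass to the completion. -/
theorem qPres_pull (hN : FTors.IsTorsZp X 𝓘 N) (Q : QPres N U s r) :
    QPres ((kap 𝓘 hX).pull.obj N) (pre 𝓘 U) (fun i => eta 𝓘 hX N (s i)) (fun j i => σ 𝓘 hX U (r j i)) := by
  classical
  let P := (kap 𝓘 hX).pull.obj N
  let O := (completionAlong X 𝓘).Osh hX
  refine ⟨fun V hV t y hy => ?_, fun V hV F c hc0 hc y hy => ?_, fun j y hy => ?_⟩
  · obtain ⟨U', rfl⟩ := exists_pre_eq 𝓘 V
    obtain ⟨D, hD, m, hyD, hm⟩ := exists_local_lift 𝓘 hX hN t y hy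
    obtain ⟨W, hW, F, c, hyW, hc⟩ := Q.gen (D ⊓ U) inf_le_right (mres N inf_le_left m) (completionToX X 𝓘 0 y)
      ⟨hyD, hV hy⟩
    refine ⟨pre 𝓘 W, pre_mono 𝓘 (hW.trans (inf_le_left.trans hD)), F, fun i => σ 𝓘 hX W (c i), hyW, ?_⟩
    have h1 := congrArg (eta 𝓘 hX N) hc
    rw [eta_sum, FModLib.mres_mres, eta_res 𝓘 hX N (hW.trans inf_le_left) m, hm, FModLib.mres_mres] at h1
    exact h1.trans (Finset.sum_congr rfl fun i _ => congrArg (fun e : MSec P (pre 𝓘 W) =>
      (σ 𝓘 hX W (c i) • e : MSec P (pre 𝓘 W))) (eta_res 𝓘 hX N (hW.trans inf_le_right) (s i)))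
  · choose Wk hWk ν hyWk hν using fun i : σs => exists_kill_nhd 𝓘 hN (s i) (show completionToX X 𝓘 0 y ∈ U from hV hy)
    let n := F.sup ν
    obtain ⟨D, hyD, hD, hDV⟩ := exists_affine_nhd 𝓘 hy
      (show completionToX X 𝓘 0 y ∈ U ⊓ F.inf Wk from ⟨hV hy, by
        have : ∀ G : Finset σs, completionToX X 𝓘 0 y ∈ G.inf Wk := fun G =>
          Finset.induction_on G trivial fun a G ha ih => by rw [Finset.inf_insert]; exact ⟨hyWk a, ih⟩
        exact this F⟩)
    have hDU := hD.trans inf_le_left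
    have hkill : ∀ i ∈ F, ∀ a : Γ(X, D.1), a ∈ 𝓘.ideal D ^ (n + 1) → (a • mres N hDU (s i) : MSec N D) = 0 := by
      intro i hi a ha
      have h3 := res_mem_powIdeal 𝓘 (le_refl (D : X.Opens))
        (Ideal.pow_le_pow_right ((Finset.le_sup hi).trans (Nat.le_succ n)) ha)
      rw [res_self] at h3
      exact hν i D (hD.trans (inf_le_right.trans (Finset.inf_le hi))) a h3
    choose a ha using fun i => exists_sub_proj_zero 𝓘 hX n D (rres O hDV (c i))
    let a' : σs → Γ(X, D.1) := fun i => if i ∈ F then a i else 0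
    have hk0 : ∀ i ∈ F, ((rres O hDV (c i) - σ 𝓘 hX D (a i)) • eta 𝓘 hX N (mres N hDU (s i)) :
        MSec P (pre 𝓘 D)) = 0 := fun i hi => by
      have hk := killed_eta 𝓘 hX (mres N hDU (s i)) (n := n) fun W' h a ha => by
        have h4 := hν i W' (h.trans (hD.trans (inf_le_right.trans (Finset.inf_le hi)))) a
          ((FTors.powIdealFam X 𝓘).ideal_le_of_le W' ((Finset.le_sup hi).trans (Nat.le_succ n)) ha)
        rw [FModLib.mres_mres]
        exact h4
      have h0 := hk _ le_rfl _ (ha i)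
      rwa [IndCohLib.mres_self] at h0
    have hrel : ∑ i ∈ F, (a' i • mres N hDU (s i) : MSec N D) = 0 := by
      refine eta_injective 𝓘 hX hN _ ((eta_sum 𝓘 hX _ F a' _).trans ?_)
      refine Eq.trans (Finset.sum_congr rfl fun i hi => ?_) ((map_sum (P.val.map (homOfLE hDV).op).hom _ _).symm.trans
        ((congrArg (mres P hDV) hc).trans (map_zero _)))
      refine Eq.trans ?_ (IndCohLib.mres_smul (hloc 𝓘) hDV (c i) _).symm
      rw [FModLib.mres_mres, ← eta_res 𝓘 hX N hDU (s i)]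
      have h5 := hk0 i hi
      rw [sub_smul, sub_eq_zero] at h5
      rw [show a' i = a i from if_pos hi]
      exact h5.symm
    obtain ⟨W, hW, G, d, hyW, hd⟩ := Q.ex D hDU F a' (fun i hi => if_neg hi) hrel (completionToX X 𝓘 0 y) hyD
    have hA : LSpan O (fun j i => σ 𝓘 hX U (r j i)) y (fun i => σ 𝓘 hX D (a' i)) := by
      refine ⟨pre 𝓘 W, pre_mono 𝓘 hW, pre_mono 𝓘 (hW.trans hDU), G, fun j => σ 𝓘 hX W (d j), hyW, fun i => ?_⟩
      rw [← σ_res 𝓘 hX hW]
      refine (congrArg (σ 𝓘 hX W) (hd i)).trans ?_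
      refine (map_sum (FComplLib.secMap 𝓘 hX W).hom _ _).trans (Finset.sum_congr rfl fun j _ => ?_)
      refine (map_mul (FComplLib.secMap 𝓘 hX W).hom _ _).trans ?_
      exact congrArg (fun e => σ 𝓘 hX W (d j) * e) (σ_res 𝓘 hX (hW.trans hDU) (r j i))
    have hB : ∀ i ∈ F, ∀ b ∈ (𝓘.ideal D ^ (n + 1)).map (FComplLib.secMap 𝓘 hX D.1).hom,
        LSpan O (fun j i => σ 𝓘 hX U (r j i)) y (Pi.single i b : σs → RSec O (pre 𝓘 D)) := by
      intro i hi b hb
      induction hb using Submodule.span_induction with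
      | mem b hb =>
        obtain ⟨t, ht, rfl⟩ := hb
        obtain ⟨W, hW, G, d, hyW, hd⟩ := Q.ex D hDU F (Pi.single i t : σs → RSec X.sheaf (D : X.Opens))
          (fun k hk => Pi.single_eq_of_ne (fun e : k = i => hk (e ▸ hi)) _)
          ((Finset.sum_eq_single_of_mem i hi fun k _ hk => by
            rw [Pi.single_eq_of_ne hk]; exact zero_smul _ (mres N hDU (s k))).trans (by
            rw [Pi.single_eq_same]; exact hkill i hi t ht)) (completionToX X 𝓘 0 y) hyD
        refine ⟨pre 𝓘 W, pre_mono 𝓘 hW, pre_mono 𝓘 (hW.trans hDU), G, fun j => σ 𝓘 hX W (d j), hyW, fun k => ?_⟩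
        have h6 : (Pi.single i (σ 𝓘 hX D t) : σs → RSec O (pre 𝓘 D)) k =
            σ 𝓘 hX D ((Pi.single i t : σs → RSec X.sheaf (D : X.Opens)) k) := by
          rcases eq_or_ne k i with rfl | hk
          · rw [Pi.single_eq_same, Pi.single_eq_same]
          · rw [Pi.single_eq_of_ne hk, Pi.single_eq_of_ne hk]
            exact (map_zero (FComplLib.secMap 𝓘 hX D.1).hom).symm
        show rres O (pre_mono 𝓘 hW) ((Pi.single i (σ 𝓘 hX D t) : σs → RSec O (pre 𝓘 D)) k) = _
        rw [h6, ← σ_res 𝓘 hX hW]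
        refine (congrArg (σ 𝓘 hX W) (hd k)).trans ?_
        refine (map_sum (FComplLib.secMap 𝓘 hX W).hom _ _).trans (Finset.sum_congr rfl fun j _ => ?_)
        refine (map_mul (FComplLib.secMap 𝓘 hX W).hom _ _).trans ?_
        exact congrArg (fun e => σ 𝓘 hX W (d j) * e) (σ_res 𝓘 hX (hW.trans hDU) (r j k))
      | zero => rw [Pi.single_zero]; exact LSpan.zero hyD (hDU hyD)
      | add p q _ _ hp hq => rw [Pi.single_add]; exact hp.add hq
      | smul z p _ hp =>
        have h7 : (Pi.single i (z • p) : σs → RSec O (pre 𝓘 D)) =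
            fun k => z * (Pi.single i p : σs → RSec O (pre 𝓘 D)) k := by
          funext k
          rcases eq_or_ne k i with rfl | hk
          · rw [Pi.single_eq_same, Pi.single_eq_same, smul_eq_mul]
          · rw [Pi.single_eq_of_ne hk, Pi.single_eq_of_ne hk, mul_zero]
        rw [h7]
        exact hp.smul z
    have hsum : LSpan O (fun j i => σ 𝓘 hX U (r j i)) y (fun i => rres O hDV (c i)) := by
      have e : (fun i => rres O hDV (c i)) = (fun i => σ 𝓘 hX D (a' i)) +
          ∑ i ∈ F, (Pi.single i (rres O hDV (c i) - σ 𝓘 hX D (a i)) : σs → RSec O (pre 𝓘 D)) := by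
        funext k
        rw [Pi.add_apply, Finset.sum_apply]
        by_cases hk : k ∈ F
        · rw [Finset.sum_eq_single_of_mem k hk fun l _ hl => Pi.single_eq_of_ne hl.symm _, Pi.single_eq_same,
            show a' k = a k from if_pos hk, add_sub_cancel]
        · rw [Finset.sum_eq_zero fun l hl => Pi.single_eq_of_ne (fun e : k = l => hk (e ▸ hl)) _,
            show a' k = 0 from if_neg hk, hc0 k hk, add_zero]
          exact (map_zero (O.obj.map (homOfLE hDV).op).hom).trans (map_zero (FComplLib.secMap 𝓘 hX D.1).hom).symm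
      rw [e]
      exact hA.add (LSpan.sum F hyD (hDU hyD) fun i hi =>
        hB i hi _ ((proj_eq_zero_iff 𝓘 hX n D _).1 (ha i)))
    obtain ⟨W', hWD, hWU, G', d', hyW', hd'⟩ := hsum
    exact ⟨W', hWD.trans hDV, G', d', hyW', fun i => (FModLib.rres_rres hWD hDV (c i)).symm.trans (hd' i)⟩
  · obtain ⟨W, hW, F, hyW, hF0, hFs⟩ := Q.supp j (completionToX X 𝓘 0 y) hy
    refine ⟨pre 𝓘 W, pre_mono 𝓘 hW, F, hyW, fun i hi => ?_, ?_⟩
    · rw [← σ_res 𝓘 hX hW]
      exact (congrArg (σ 𝓘 hX W) (hF0 i hi)).trans (map_zero (FComplLib.secMap 𝓘 hX W).hom)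
    · have h1 := (congrArg (eta 𝓘 hX N) hFs).trans (map_zero (((kap 𝓘 hX).adj.unit.app N).val.app (op W)).hom)
      rw [eta_sum] at h1
      refine Eq.trans (Finset.sum_congr rfl fun i _ => ?_) h1
      rw [← σ_res 𝓘 hX hW]
      exact congrArg (fun e : MSec P (pre 𝓘 W) => (σ 𝓘 hX W (rres X.sheaf hW (r j i)) • e : MSec P (pre 𝓘 W)))
        (eta_res 𝓘 hX N hW (s i)).symm

/-- Pullbacks of quasi-coherent power torsion modules are quasi-coherent torsion modules. -/
theorem isQCT_pull (hN : FTors.IsTorsZp X 𝓘 N) (hq : SheafOfModules.IsQuasicoherent.{u} N) :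
    FTors.IsQCT (completionAlong X 𝓘) (hloc 𝓘).1 ((kap 𝓘 (hloc 𝓘).1).pull.obj N) := by
  refine ⟨isTorsF_pull 𝓘 (hloc 𝓘).1 hN, IndCohLib.isQuasicoherent_of_isQC (hloc 𝓘) fun y => ?_⟩
  obtain ⟨U, σs, κ, s, r, hyU, Q⟩ := FModLib.exists_qPres N hq (completionToX X 𝓘 0 y)
  exact ⟨pre 𝓘 U, hyU, fun V hV hle => IndCohLib.good_of_qPres (hloc 𝓘) (qPres_pull 𝓘 (hloc 𝓘).1 hN Q) hV hle⟩

end CmplTorsLib
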