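import Groth.Agent.CmplTorsLib.Main
import Groth.Agent.IndCohLib.QCTClosure
import Groth.Agent.IndCohLib.TorsKill
import Groth.Agent.QCohLib.AffineFinite
import Groth.Agent.FCohLib.Stable

/-!
# Direct images of quasi-coherent torsion modules from a completion
-/

set_option autoImplicit false
set_option linter.unusedSectionVars false
set_option maxHeartbeats 400000

noncomputable section

universe u

open CategoryTheory CategoryTheory.Limits TopologicalSpace Opposite AlgebraicGeometry FSch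
open FModLib (MSec RSec oK mres rres)
open FCohLib (Basic)
open FComplLib (secProj)

namespace CmplTorsLib

variable {X : Scheme.{u}} [IsLocallyNoetherian X] (𝓘 : X.IdealSheafData)
  (hX : (completionAlong X 𝓘).IsFormal)

theorem pre_basicOpen (D : X.affineOpens) (f : Γ(X, D.1)) :
    pre 𝓘 (X.basicOpen f) = IndCohLib.Dg (hloc 𝓘) (σ 𝓘 (hloc 𝓘).1 D f) := by
  refine Eq.trans ?_ (congrArg ((completionAlong X 𝓘).X 0).basicOpen (proj_σ 𝓘 (hloc 𝓘).1 0 D f)).symm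
  refine ((Scheme.basicOpen_appLE _ _ _ _ f).trans ?_).symm
  refine inf_eq_right.2 ?_
  exact (pre_mono 𝓘 (X.basicOpen_le f)).trans (IndCohLib.lvU_zero (hloc 𝓘) (pre 𝓘 D)).ge

theorem basic_pre (D : X.affineOpens) (f : Γ(X, D.1)) :
    Basic (hloc 𝓘) (pre 𝓘 (X.basicOpen f)) (σ 𝓘 (hloc 𝓘).1 D f) := by
  rw [pre_basicOpen]
  exact IndCohLib.basic_Dg (hloc 𝓘) (isAffineOpen_pre 𝓘 D) _

variable {M : ModF (completionAlong X 𝓘) (hloc 𝓘).1}

theorem push_localizingAt (hM : FTors.IsQCT (completionAlong X 𝓘) (hloc 𝓘).1 M) (D : X.affineOpens) (f : Γ(X, D.1)) :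
    QCohLib.LocalizingAt (X := X) ((kap 𝓘 (hloc 𝓘).1).push.obj M) f := by
  have ht := (IndCohLib.isTors_iff (hloc 𝓘)).1 hM.1
  have hV := isAffineOpen_pre 𝓘 D
  have hG := (IndCohLib.isInd_of_isQCT (hloc 𝓘) hM).good _ hV
  have hb := basic_pre 𝓘 D f
  have hres : σ 𝓘 (hloc 𝓘).1 (X.basicOpen f) (X.presheaf.map (homOfLE (X.basicOpen_le f)).op f) =
      rres _ hb.le (σ 𝓘 (hloc 𝓘).1 D f) := σ_res 𝓘 (hloc 𝓘).1 (X.basicOpen_le f) f
  constructor
  · intro s
    obtain ⟨n, hn⟩ := IndCohLib.exists_killed (hloc 𝓘) hb.affine.isCompact (ht _ (show MSec M _ from s))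
    obtain ⟨E, m, hm⟩ := IndCohLib.exists_ext_kill (hloc 𝓘)
      (fun U y => IndCohLib.killed_killMod (hloc 𝓘) (n := n) (M := M) y) hb
      (IndCohLib.good_killMod (hloc 𝓘) hG n) ⟨show MSec M _ from s, hn⟩
    refine ⟨E, (m.1 : MSec M _), (congrArg Subtype.val hm).trans ?_⟩
    show ((rres _ hb.le (σ 𝓘 (hloc 𝓘).1 D f)) ^ E • (show MSec M (pre 𝓘 (X.basicOpen f)) from s) :
        MSec M (pre 𝓘 (X.basicOpen f))) =
      σ 𝓘 (hloc 𝓘).1 (X.basicOpen f) ((X.presheaf.map (homOfLE (X.basicOpen_le f)).op f) ^ E) •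
        (show MSec M (pre 𝓘 (X.basicOpen f)) from s)
    rw [← hres]
    exact congrArg (fun c => c • (show MSec M (pre 𝓘 (X.basicOpen f)) from s))
      (map_pow (FComplLib.secMap 𝓘 (hloc 𝓘).1 (X.basicOpen f)).hom _ E).symm
  · intro t h0
    obtain ⟨n, hn⟩ := IndCohLib.exists_killed (hloc 𝓘) hV.isCompact (ht _ (show MSec M _ from t))
    obtain ⟨E, hE⟩ := IndCohLib.exists_pow_kill_sec (hloc 𝓘)
      (fun U y => IndCohLib.killed_killMod (hloc 𝓘) (n := n) (M := M) y) hb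
      (IndCohLib.good_killMod (hloc 𝓘) hG n) ⟨show MSec M _ from t, hn⟩ (Subtype.ext h0)
    refine ⟨E, ?_⟩
    show (σ 𝓘 (hloc 𝓘).1 D ((X.presheaf.map (homOfLE (le_refl D.1)).op f) ^ E) •
      (show MSec M (pre 𝓘 D) from t) : MSec M (pre 𝓘 D)) = 0
    rw [res_self]
    refine (congrArg (fun c => c • (show MSec M (pre 𝓘 D) from t))
      (map_pow (FComplLib.secMap 𝓘 (hloc 𝓘).1 D.1).hom f E)).trans ?_
    exact congrArg Subtype.val hE

theorem isQCoh_push (hM : FTors.IsQCT (completionAlong X 𝓘) (hloc 𝓘).1 M) :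
    Coh.IsQCoh (X := X) ((kap 𝓘 (hloc 𝓘).1).push.obj M) :=
  (QCohLib.isQCoh_iff_localizingAt _).2 fun U hU f => push_localizingAt 𝓘 hM ⟨U, hU⟩ f

theorem isCoh_push (hM : FTors.IsQCT (completionAlong X 𝓘) (hloc 𝓘).1 M)
    (hc : IsCohF (completionAlong X 𝓘) (hloc 𝓘).1 M) : Coh.IsCoh (X := X) ((kap 𝓘 (hloc 𝓘).1).push.obj M) := by
  classical
  have := isQCoh_push 𝓘 hM
  have ht := (IndCohLib.isTors_iff (hloc 𝓘)).1 hM.1
  refine ⟨isQCoh_push 𝓘 hM, QCohLib.isFT_of_finite fun p => ?_⟩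
  obtain ⟨D, hpD, -⟩ := exists_affine_le (show p ∈ (⊤ : X.Opens) from trivial)
  refine ⟨D, D.2, hpD, ?_⟩
  have hV := isAffineOpen_pre 𝓘 D
  obtain ⟨T, hT⟩ := (FCohLib.finite_sec (hloc 𝓘) hc hV).fg_top
  choose ν hν using fun t : MSec M (pre 𝓘 D) => IndCohLib.exists_killed (hloc 𝓘) hV.isCompact (ht _ t)
  refine ⟨Submodule.fg_def.2 ⟨(show Set Γ((kap 𝓘 (hloc 𝓘).1).push.obj M, D.1) from (T : Set (MSec M (pre 𝓘 D)))),
    T.finite_toSet, eq_top_iff.2 fun x _ => ?_⟩⟩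
  suffices key : ∀ z : MSec M (pre 𝓘 D), z ∈ Submodule.span _ (T : Set (MSec M (pre 𝓘 D))) →
      (show Γ((kap 𝓘 (hloc 𝓘).1).push.obj M, D.1) from z) ∈
        Submodule.span Γ(X, D.1) (show Set Γ((kap 𝓘 (hloc 𝓘).1).push.obj M, D.1) from
          ((T : Set (MSec M (pre 𝓘 D))))) from
    key x (hT ▸ Submodule.mem_top)
  intro z hx
  induction hx using Submodule.span_induction with
  | mem t h => exact Submodule.subset_span h
  | zero => exact Submodule.zero_mem _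
  | add a b _ _ ha hb => exact Submodule.add_mem _ ha hb
  | smul b t _ ht' =>
    obtain ⟨a, ha⟩ := exists_sub_proj_zero 𝓘 (hloc 𝓘).1 (ν t) D b
    have h0 := hν t _ le_rfl (b - σ 𝓘 (hloc 𝓘).1 D a) ha
    rw [IndCohLib.mres_self, sub_smul] at h0
    rw [sub_eq_zero.1 h0]
    exact Submodule.smul_mem _ a ht'

end CmplTorsLib
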