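import Groth.Agent.CmplTorsLib.DivPre
import Groth.Agent.CmplTorsLib.Exact
import Groth.Agent.CmplTorsLib.PushQC
import Groth.Agent.CmplTorsLib.PullQC

/-!
# Derived torsion and pullback to the completion
-/

set_option autoImplicit false
set_option linter.unusedSectionVars false
set_option linter.style.haveILetI false
set_option maxHeartbeats 800000
set_option synthInstance.maxHeartbeats 80000

noncomputable section

universe u

open CategoryTheory CategoryTheory.Limits TopologicalSpace Opposite AlgebraicGeometry FSch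
open Groth.Agent

attribute [local instance] HasDerivedCategory.standard

namespace CmplTorsLib

variable {X : Scheme.{u}} [IsLocallyNoetherian X] (𝓘 : X.IdealSheafData)

theorem chain_aux {C : Type*} [Category C] {A₀ A₁ A₂ A₃ A₄ A₅ B : C} {a : A₀ ⟶ A₁} {b : A₁ ⟶ A₂} {c : A₂ ⟶ A₃}
    {d : A₃ ⟶ A₄} {e : A₄ ⟶ B} {e' : A₃ ⟶ A₅} {g : A₂ ⟶ A₅} {h : A₁ ⟶ A₅} {d' : A₅ ⟶ B} {m : A₀ ⟶ B}
    {d'' : B ⟶ A₅} (h₁ : d ≫ e = e' ≫ d') (h₂ : c ≫ e' = g) (h₃ : b ≫ g = h) (h₄ : m ≫ d'' = a ≫ h)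
    (h₅ : d'' ≫ d' = 𝟙 B) : (a ≫ b ≫ c ≫ d) ≫ e = m := by
  rw [Category.assoc, Category.assoc, Category.assoc, h₁, reassoc_of% h₂, reassoc_of% h₃, ← reassoc_of% h₄, h₅,
    Category.comp_id]

theorem inv_aux {C : Type*} [Category C] {A B D D' : C} {u : A ⟶ B} [IsIso u] {θ : A ⟶ D} {e : D ⟶ D'}
    {m : A ⟶ D'} {w : B ⟶ D'} (h₁ : θ ≫ e = m) (h₂ : u ≫ w = m) : (inv u ≫ θ) ≫ e = w := by
  rw [Category.assoc, h₁, ← h₂, IsIso.inv_hom_id_assoc]

theorem isIso_aux {C : Type*} [Category C] {A₀ A₁ A₂ A₃ A₄ : C} (a : A₀ ⟶ A₁) (b : A₁ ⟶ A₂) (c : A₂ ⟶ A₃)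
    (d : A₃ ⟶ A₄) (ha : IsIso a) (hb : IsIso b) (hc : IsIso c) (hd : IsIso d) : IsIso (a ≫ b ≫ c ≫ d) :=
  inferInstance

/-- The power torsion subcomplex. -/
abbrev gammaCxZ (K : CochainComplex (ModSite.Mod X.sheaf) ℤ) : CochainComplex (ModSite.Mod X.sheaf) ℤ :=
  ((FTors.gammaZp X 𝓘).mapHomologicalComplex (ComplexShape.up ℤ)).obj K

/-- Its inclusion. -/
def gammaCxZι (K : CochainComplex (ModSite.Mod X.sheaf) ℤ) : gammaCxZ 𝓘 K ⟶ K where
  f n := (FTors.gammaZpι X 𝓘).app (K.X n)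
  comm' i j _ := ((FTors.gammaZpι X 𝓘).naturality (K.d i j)).symm

theorem gammaτZ_app (K : CochainComplex (ModSite.Mod X.sheaf) ℤ) :
    (FTors.gammaτ (FTors.powIdealFam X 𝓘)).app ((HomotopyCategory.quotient _ _).obj K) =
      DerivedCategory.Qh.map ((HomotopyCategory.quotient _ _).map (gammaCxZι 𝓘 K)) := by
  show (FTors.gammaτ0 (FTors.powIdealFam X 𝓘)).app K = _
  simp only [FTors.gammaτ0, NatTrans.comp_app, Functor.whiskerRight_app, Functor.associator_inv_app,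
    Functor.associator_hom_app, Functor.leftUnitor_hom_app, Category.id_comp, Category.comp_id]
  refine Eq.trans ?_ (congrArg (fun a => DerivedCategory.Qh.map ((HomotopyCategory.quotient _ _).map a))
    (show (NatTrans.mapHomologicalComplex (FTors.gammaι (FTors.powIdealFam X 𝓘)) (ComplexShape.up ℤ)).app K ≫
      (Functor.mapHomologicalComplexIdIso (ModSite.Mod X.sheaf) (ComplexShape.up ℤ)).hom.app K = gammaCxZι 𝓘 K from
      HomologicalComplex.hom_ext _ _ fun n => Category.comp_id _))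
  refine (congrArg (fun q => q ≫ _) (DerivedCategory.Qh.map_id _)).trans ((Category.id_comp _).trans ?_)
  exact (DerivedCategory.Qh.map_comp _ _).symm.trans
    (congrArg DerivedCategory.Qh.map ((HomotopyCategory.quotient _ _).map_comp _ _).symm)

/-- The pullback of the torsion subcomplex into the torsion subcomplex of the pullback. -/
def compCxTors (K : CochainComplex (ModSite.Mod X.sheaf) ℤ) :
    ((kap 𝓘 (hloc 𝓘).1).pull.mapHomologicalComplex (ComplexShape.up ℤ)).obj (gammaCxZ 𝓘 K) ⟶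
      DTorsLib.gammaCx (hloc 𝓘) (((kap 𝓘 (hloc 𝓘).1).pull.mapHomologicalComplex (ComplexShape.up ℤ)).obj K) where
  f n := (compTors 𝓘).app (K.X n)
  comm' i j _ := ((compTors 𝓘).naturality (K.d i j)).symm

theorem isIso_compCxTors (K : CochainComplex (ModSite.Mod X.sheaf) ℤ) : IsIso (compCxTors 𝓘 K) := by
  haveI := isIso_compTors 𝓘
  haveI : ∀ n, IsIso ((compCxTors 𝓘 K).f n) := fun n => inferInstanceAs (IsIso ((compTors 𝓘).app (K.X n)))
  exact HomologicalComplex.Hom.isIso_of_components _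

theorem compCxTors_ι (K : CochainComplex (ModSite.Mod X.sheaf) ℤ) :
    compCxTors 𝓘 K ≫ DTorsLib.gammaCxι (hloc 𝓘) _ =
      ((kap 𝓘 (hloc 𝓘).1).pull.mapHomologicalComplex (ComplexShape.up ℤ)).map (gammaCxZι 𝓘 K) :=
  HomologicalComplex.hom_ext _ _ fun n => compTors_ι 𝓘 (K.X n)

theorem isDTorsZp_Qh (K : CochainComplex (ModSite.Mod X.sheaf) ℤ) (h : ∀ n, FTors.IsTorsZp X 𝓘 (K.homology n)) :
    FTors.IsDTorsZp X 𝓘 (DerivedCategory.Qh.obj ((HomotopyCategory.quotient _ _).obj K)) := fun n =>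
  isTorsZp_of_iso 𝓘 ((DerivedCategory.homologyFunctorFactorsh (ModSite.Mod X.sheaf) n).app _ ≪≫
    (HomotopyCategory.homologyFunctorFactors (ModSite.Mod X.sheaf) (ComplexShape.up ℤ) n).app K).symm (h n)

theorem exists_kInjective (F : DerivedCategory (ModSite.Mod X.sheaf)) :
    ∃ I : CochainComplex (ModSite.Mod X.sheaf) ℤ, I.IsKInjective ∧ (∀ n, Injective (I.X n)) ∧
      Nonempty (DerivedCategory.Qh.obj ((HomotopyCategory.quotient _ _).obj I) ≅ F) := by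
  obtain ⟨I, f, hI, hf, hinj⟩ := DerLib.KInjRes.exists_resolution (DerivedCategory.Q.objPreimage F)
  haveI : QuasiIso f := (HomologicalComplex.mem_quasiIso_iff _).1 hf.2
  exact ⟨I, hI, hinj, ⟨(DerivedCategory.quotientCompQhIso _).app I ≪≫ (asIso (DerivedCategory.Q.map f)).symm ≪≫
    DerivedCategory.Q.objObjPreimageIso F⟩⟩

section Pull

variable [PreservesFiniteLimits (kap 𝓘 (hloc 𝓘).1).pull]

/-- The pullback of a complex with power torsion cohomology has torsion cohomology. -/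
theorem isDTorsF_pullD {F : DerivedCategory (ModSite.Mod X.sheaf)} (hF : FTors.IsDTorsZp X 𝓘 F) :
    FTors.IsDTorsF (completionAlong X 𝓘) (hloc 𝓘).1 ((SiteCmp.pullD (kap 𝓘 (hloc 𝓘).1)).obj F) := fun n =>
  IndCohLib.isTors_of_iso (hloc 𝓘) ((DerLib.ExactHomology.homologyIso (kap 𝓘 (hloc 𝓘).1).pull n).app F).symm
    (isTorsF_pull 𝓘 (hloc 𝓘).1 (hF n))

theorem isDQCT_pullD {F : DerivedCategory (ModSite.Mod X.sheaf)} (hF : FTors.IsDTorsZp X 𝓘 F)
    (hq : ∀ i : ℤ, SheafOfModules.IsQuasicoherent.{u} (SiteCmp.HMod F i)) :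
    FTors.IsDQCT (completionAlong X 𝓘) (hloc 𝓘).1 ((SiteCmp.pullD (kap 𝓘 (hloc 𝓘).1)).obj F) := fun n =>
  IndCohLib.isQCT_of_iso (hloc 𝓘) ((DerLib.ExactHomology.homologyIso (kap 𝓘 (hloc 𝓘).1).pull n).app F).symm
    (isQCT_pull 𝓘 (hF n) (hq n))

theorem isTorsZp_homology (K : CochainComplex (ModSite.Mod X.sheaf) ℤ) (hK : ∀ i, FTors.IsTorsZp X 𝓘 (K.X i))
    (n : ℤ) : FTors.IsTorsZp X 𝓘 (K.homology n) := by
  let L := (kap 𝓘 (hloc 𝓘).1).pull
  let R := (kap 𝓘 (hloc 𝓘).1).push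
  haveI := preservesFiniteColimits_push 𝓘
  haveI : R.Additive := (kap 𝓘 (hloc 𝓘).1).adj.right_adjoint_additive
  haveI : R.PreservesHomology := Functor.preservesHomologyOfExact R
  let K' := (L.mapHomologicalComplex (ComplexShape.up ℤ)).obj K
  let u := (DerLib.KInjDerived.mapHomologicalComplexAdj (kap 𝓘 (hloc 𝓘).1).adj (ComplexShape.up ℤ)).unit.app K
  haveI : ∀ i, IsIso (u.f i) := fun i => isIso_unit 𝓘 (hloc 𝓘).1 (hK i)
  haveI : IsIso u := HomologicalComplex.Hom.isIso_of_components _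
  refine isTorsZp_of_iso 𝓘 ((HomologicalComplex.homologyFunctor _ _ n).mapIso (asIso u) ≪≫
    (K'.sc n).mapHomologyIso R).symm ?_
  exact isTorsZp_push 𝓘 (hloc 𝓘).1 (DTorsLib.isTors_homology (hloc 𝓘) K'
    (fun i => isTorsF_pull 𝓘 (hloc 𝓘).1 (hK i)) n)

variable [FTors.HasRgammaZp X 𝓘]

/-- The comparison of the power torsion functor with its derived functor. -/
abbrev gUnitZ : FTors.gammaKh (FTors.powIdealFam X 𝓘) ⟶ DerivedCategory.Qh ⋙ FTors.RgammaZp X 𝓘 :=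
  (FTors.gammaKh (FTors.powIdealFam X 𝓘)).totalRightDerivedUnit DerivedCategory.Qh
    (HomotopyCategory.quasiIso (ModSite.Mod X.sheaf) (ComplexShape.up ℤ))

theorem gUnitZ_ε (K : HomotopyCategory (ModSite.Mod X.sheaf) (ComplexShape.up ℤ)) :
    (gUnitZ 𝓘).app K ≫ (FTors.RgammaZpε X 𝓘).app (DerivedCategory.Qh.obj K) =
      (FTors.gammaτ (FTors.powIdealFam X 𝓘)).app K := by
  refine ((FTors.RgammaZp X 𝓘).rightDerived_fac_app (gUnitZ 𝓘)
    (HomotopyCategory.quasiIso (ModSite.Mod X.sheaf) (ComplexShape.up ℤ)) (𝟭 _)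
    (FTors.gammaτ (FTors.powIdealFam X 𝓘) ≫ (Functor.rightUnitor DerivedCategory.Qh).inv) K).trans ?_
  exact Category.comp_id _

theorem isIso_gUnitZ (I : CochainComplex (ModSite.Mod X.sheaf) ℤ) [I.IsKInjective] :
    IsIso ((gUnitZ 𝓘).app ((HomotopyCategory.quotient _ _).obj I)) :=
  DerLib.KInjDerived.isIso_app (FTors.RgammaZp X 𝓘) (gUnitZ 𝓘) (DerLib.KInjDerived.enoughKInj _) I

/-- The derived power torsion of any complex has power torsion cohomology. -/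
theorem isDTorsZp_rgammaZp (F : DerivedCategory (ModSite.Mod X.sheaf)) :
    FTors.IsDTorsZp X 𝓘 ((FTors.RgammaZp X 𝓘).obj F) := by
  obtain ⟨I, hI, -, ⟨e⟩⟩ := exists_kInjective F
  haveI := isIso_gUnitZ 𝓘 I
  refine isDTorsZp_of_iso 𝓘 ((FTors.RgammaZp X 𝓘).mapIso e) (isDTorsZp_of_iso 𝓘
    (asIso ((gUnitZ 𝓘).app ((HomotopyCategory.quotient _ _).obj I))) ?_)
  exact isDTorsZp_Qh 𝓘 (gammaCxZ 𝓘 I) (isTorsZp_homology 𝓘 (gammaCxZ 𝓘 I) fun i => isTorsZp_gammaZp 𝓘 (I.X i))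

variable [FTors.HasRgammaT (completionAlong X 𝓘) (hloc 𝓘).1]

/-- **Derived torsion commutes with pullback to the completion.** -/
theorem exists_colocal (F : DerivedCategory (ModSite.Mod X.sheaf)) :
    ∃ ψ : (SiteCmp.pullD (kap 𝓘 (hloc 𝓘).1)).obj ((FTors.RgammaZp X 𝓘).obj F) ⟶
        (FTors.RgammaT (completionAlong X 𝓘) (hloc 𝓘).1).obj ((SiteCmp.pullD (kap 𝓘 (hloc 𝓘).1)).obj F),
      IsIso ψ ∧ ψ ≫ (FTors.RgammaTε (completionAlong X 𝓘) (hloc 𝓘).1).app _ =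
        (SiteCmp.pullD (kap 𝓘 (hloc 𝓘).1)).map ((FTors.RgammaZpε X 𝓘).app F) := by
  let L := (kap 𝓘 (hloc 𝓘).1).pull
  let L' := SiteCmp.pullD (kap 𝓘 (hloc 𝓘).1)
  let RT := FTors.RgammaT (completionAlong X 𝓘) (hloc 𝓘).1
  let εT := FTors.RgammaTε (completionAlong X 𝓘) (hloc 𝓘).1
  obtain ⟨I, hI, hinj, ⟨e⟩⟩ := exists_kInjective F
  let LI := (L.mapHomologicalComplex (ComplexShape.up ℤ)).obj I
  let qI := (HomotopyCategory.quotient (ModSite.Mod X.sheaf) (ComplexShape.up ℤ)).obj I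
  let qG := (HomotopyCategory.quotient (ModSite.Mod X.sheaf) (ComplexShape.up ℤ)).obj (gammaCxZ 𝓘 I)
  let q := HomotopyCategory.quotient (ModF (completionAlong X 𝓘) (hloc 𝓘).1) (ComplexShape.up ℤ)
  let α := L.mapDerivedCategoryFactorsh
  haveI := isIso_gUnitZ 𝓘 I
  haveI : IsIso ((DTorsLib.gUnit (hloc 𝓘)).app (q.obj LI)) :=
    isIso_gUnit_pre 𝓘 LI fun i => haveI := hinj i; divPre_pull 𝓘 (I.X i)
  haveI := isIso_compCxTors 𝓘 I
  let θ : L'.obj (DerivedCategory.Qh.obj qG) ⟶ RT.obj (L'.obj (DerivedCategory.Qh.obj qI)) :=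
    α.hom.app qG ≫ DerivedCategory.Qh.map (q.map (compCxTors 𝓘 I)) ≫ (DTorsLib.gUnit (hloc 𝓘)).app (q.obj LI) ≫
      RT.map (α.inv.app qI)
  haveI : IsIso (L'.map ((gUnitZ 𝓘).app qI)) := inferInstance
  let ψ₀ : L'.obj ((FTors.RgammaZp X 𝓘).obj (DerivedCategory.Qh.obj qI)) ⟶
      RT.obj (L'.obj (DerivedCategory.Qh.obj qI)) := inv (L'.map ((gUnitZ 𝓘).app qI)) ≫ θ
  have hθ : θ ≫ εT.app (L'.obj (DerivedCategory.Qh.obj qI)) =
      L'.map (DerivedCategory.Qh.map ((HomotopyCategory.quotient _ _).map (gammaCxZι 𝓘 I))) := by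
    have h1 : RT.map (α.inv.app qI) ≫ εT.app (L'.obj (DerivedCategory.Qh.obj qI)) =
        εT.app (DerivedCategory.Qh.obj (q.obj LI)) ≫ α.inv.app qI := εT.naturality (α.inv.app qI)
    have h2 : (DTorsLib.gUnit (hloc 𝓘)).app (q.obj LI) ≫ εT.app (DerivedCategory.Qh.obj (q.obj LI)) =
        DerivedCategory.Qh.map (q.map (DTorsLib.gammaCxι (hloc 𝓘) LI)) :=
      (DTorsLib.gUnit_ε (hloc 𝓘) _).trans (DTorsLib.gammaτ_app (hloc 𝓘) LI)
    have h3 : DerivedCategory.Qh.map (q.map (compCxTors 𝓘 I)) ≫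
        DerivedCategory.Qh.map (q.map (DTorsLib.gammaCxι (hloc 𝓘) LI)) =
        DerivedCategory.Qh.map (q.map ((L.mapHomologicalComplex (ComplexShape.up ℤ)).map (gammaCxZι 𝓘 I))) := by
      rw [← compCxTors_ι 𝓘 I]
      exact (DerivedCategory.Qh.map_comp _ _).symm.trans (congrArg DerivedCategory.Qh.map (q.map_comp _ _).symm)
    have h4 := α.hom.naturality ((HomotopyCategory.quotient _ _).map (gammaCxZι 𝓘 I))
    exact chain_aux h1 h2 h3 h4 (α.hom_inv_id_app qI)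
  have hψ₀ : ψ₀ ≫ εT.app _ = L'.map ((FTors.RgammaZpε X 𝓘).app (DerivedCategory.Qh.obj qI)) :=
    inv_aux hθ ((L'.map_comp _ _).symm.trans (congrArg L'.map ((gUnitZ_ε 𝓘 qI).trans (gammaτZ_app 𝓘 I))))
  haveI : IsIso θ := isIso_aux _ _ _ _ inferInstance
    (@Functor.map_isIso _ _ _ _ _ _ DerivedCategory.Qh _ (@Functor.map_isIso _ _ _ _ _ _ q _ (isIso_compCxTors 𝓘 I)))
    (by assumption) (@Functor.map_isIso _ _ _ _ _ _ RT _ (Iso.isIso_inv (α.app qI)))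
  haveI : IsIso ψ₀ := IsIso.comp_isIso' (IsIso.inv_isIso) (by assumption)
  refine ⟨L'.map ((FTors.RgammaZp X 𝓘).map e.inv) ≫ ψ₀ ≫ RT.map (L'.map e.hom), inferInstance, ?_⟩
  simp only [Category.assoc]
  rw [show RT.map (L'.map e.hom) ≫ εT.app (L'.obj F) = εT.app (L'.obj (DerivedCategory.Qh.obj qI)) ≫ L'.map e.hom from
    εT.naturality (L'.map e.hom), reassoc_of% hψ₀, ← L'.map_comp, ← L'.map_comp]
  refine congrArg L'.map ?_
  refine ((Category.assoc _ _ _).symm.trans (congrArg (fun w => w ≫ e.hom)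
    ((FTors.RgammaZpε X 𝓘).naturality e.inv))).trans ?_
  exact ((Category.assoc _ _ _).trans (congrArg (fun w => _ ≫ w) e.inv_hom_id)).trans (Category.comp_id _)

end Pull

section Adj

variable [PreservesFiniteLimits (kap 𝓘 (hloc 𝓘).1).pull]

theorem homEquiv_map {A B : DerivedCategory (ModSite.Mod X.sheaf)} [SiteCmp.HasRpushD (kap 𝓘 (hloc 𝓘).1)] (φ : A ⟶ B) :
    (derAdj 𝓘).homEquiv _ _ ((SiteCmp.pullD (kap 𝓘 (hloc 𝓘).1)).map φ) = φ ≫ (derAdj 𝓘).unit.app B := by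
  rw [Adjunction.homEquiv_unit]
  exact ((derAdj 𝓘).unit.naturality φ).symm

/-- Pullback is fully faithful into complexes with power torsion cohomology. -/
theorem pullD_map_bijective_right (A B : DerivedCategory (ModSite.Mod X.sheaf)) (hB : FTors.IsDTorsZp X 𝓘 B) :
    Function.Bijective (fun φ : A ⟶ B => (SiteCmp.pullD (kap 𝓘 (hloc 𝓘).1)).map φ) := by
  haveI : SiteCmp.HasRpushD (kap 𝓘 (hloc 𝓘).1) :=
    DerLib.KInjDerived.hasRightDerivedFunctor _ (DerLib.KInjDerived.enoughKInj _)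
  haveI := isIso_derUnit 𝓘 hB
  refine ⟨fun φ φ' h => ?_, fun χ => ⟨(derAdj 𝓘).homEquiv _ _ χ ≫ inv ((derAdj 𝓘).unit.app B), ?_⟩⟩
  · exact (cancel_mono ((derAdj 𝓘).unit.app B)).1
      ((homEquiv_map 𝓘 φ).symm.trans ((congrArg ((derAdj 𝓘).homEquiv _ _) h).trans (homEquiv_map 𝓘 φ')))
  · refine ((derAdj 𝓘).homEquiv _ _).injective ((homEquiv_map 𝓘 _).trans ?_)
    exact (Category.assoc _ _ _).trans ((congrArg (fun w => _ ≫ w) (IsIso.inv_hom_id _)).trans (Category.comp_id _))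

variable [FTors.HasRgammaT (completionAlong X 𝓘) (hloc 𝓘).1] [FTors.HasRgammaZp X 𝓘]

/-- Complexes with power torsion cohomology are their own derived torsion. -/
theorem isIso_rgammaZpε {F : DerivedCategory (ModSite.Mod X.sheaf)} (hF : FTors.IsDTorsZp X 𝓘 F) :
    IsIso ((FTors.RgammaZpε X 𝓘).app F) := by
  haveI : SiteCmp.HasRpushD (kap 𝓘 (hloc 𝓘).1) :=
    DerLib.KInjDerived.hasRightDerivedFunctor _ (DerLib.KInjDerived.enoughKInj _)
  obtain ⟨ψ, hψ, h⟩ := exists_colocal 𝓘 F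
  haveI := DTorsLib.isIso_rgammaTε (hloc 𝓘) (isDTorsF_pullD 𝓘 hF)
  haveI : IsIso ((SiteCmp.pullD (kap 𝓘 (hloc 𝓘).1)).map ((FTors.RgammaZpε X 𝓘).app F)) := h ▸ inferInstance
  haveI := isIso_derUnit 𝓘 hF
  haveI := isIso_derUnit 𝓘 (isDTorsZp_rgammaZp 𝓘 F)
  have hn : (FTors.RgammaZpε X 𝓘).app F ≫ (derAdj 𝓘).unit.app F = (derAdj 𝓘).unit.app ((FTors.RgammaZp X 𝓘).obj F) ≫
      (SiteCmp.RpushD (kap 𝓘 (hloc 𝓘).1)).map
        ((SiteCmp.pullD (kap 𝓘 (hloc 𝓘).1)).map ((FTors.RgammaZpε X 𝓘).app F)) :=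
    (derAdj 𝓘).unit.naturality ((FTors.RgammaZpε X 𝓘).app F)
  exact IsIso.of_isIso_fac_right hn

/-- **The derived power torsion is a coreflection and pullback is fully faithful out of it.** -/
theorem colocal_bijective (A F : DerivedCategory (ModSite.Mod X.sheaf)) (hA : FTors.IsDTorsZp X 𝓘 A) :
    Function.Bijective (fun χ : A ⟶ (FTors.RgammaZp X 𝓘).obj F => χ ≫ (FTors.RgammaZpε X 𝓘).app F) ∧
      Function.Bijective (fun φ : A ⟶ F => (SiteCmp.pullD (kap 𝓘 (hloc 𝓘).1)).map φ) := by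
  let L' := SiteCmp.pullD (kap 𝓘 (hloc 𝓘).1)
  obtain ⟨ψ, hψ, h⟩ := exists_colocal 𝓘 F
  let a := fun χ : A ⟶ (FTors.RgammaZp X 𝓘).obj F => χ ≫ (FTors.RgammaZpε X 𝓘).app F
  let b := fun φ : A ⟶ F => L'.map φ
  have hab : Function.Bijective (b ∘ a) := by
    have h2 : b ∘ a = (fun s => s ≫ (FTors.RgammaTε (completionAlong X 𝓘) (hloc 𝓘).1).app (L'.obj F)) ∘
        ((asIso ψ).homToEquiv ∘ fun χ : A ⟶ (FTors.RgammaZp X 𝓘).obj F => L'.map χ) := funext fun χ => by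
      show L'.map (χ ≫ (FTors.RgammaZpε X 𝓘).app F) = (L'.map χ ≫ ψ) ≫ _
      rw [Category.assoc, h, L'.map_comp]
    rw [h2]
    exact (DTorsLib.comp_rgammaTε_bijective (hloc 𝓘) (L'.obj A) (L'.obj F) (isDTorsF_pullD 𝓘 hA)).comp
      ((Equiv.bijective _).comp (pullD_map_bijective_right 𝓘 A _ (isDTorsZp_rgammaZp 𝓘 F)))
  have ha : Function.Surjective a := fun φ => by
    haveI := isIso_rgammaZpε 𝓘 hA
    refine ⟨inv ((FTors.RgammaZpε X 𝓘).app A) ≫ (FTors.RgammaZp X 𝓘).map φ, ?_⟩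
    exact (Category.assoc _ _ _).trans ((congrArg (fun w => _ ≫ w) ((FTors.RgammaZpε X 𝓘).naturality φ)).trans
      (IsIso.inv_hom_id_assoc _ φ))
  refine ⟨⟨hab.1.of_comp, ha⟩, ⟨fun φ φ' hφ => ?_, hab.2.of_comp⟩⟩
  obtain ⟨χ, rfl⟩ := ha φ
  obtain ⟨χ', rfl⟩ := ha φ'
  exact congrArg a (hab.1 hφ)

/-- Pullback to the completion is fully faithful when one side has power torsion cohomology. -/
theorem pullD_map_bijective (E F : DerivedCategory (ModSite.Mod X.sheaf))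
    (h : FTors.IsDTorsZp X 𝓘 E ∨ FTors.IsDTorsZp X 𝓘 F) :
    Function.Bijective (fun φ : E ⟶ F => (SiteCmp.pullD (kap 𝓘 (hloc 𝓘).1)).map φ) :=
  h.elim (fun hE => (colocal_bijective 𝓘 E F hE).2) (pullD_map_bijective_right 𝓘 E F)

/-- The comparison of derived torsion with pullback, uniquely. -/
theorem existsUnique_iso_pullD (F : DerivedCategory (ModSite.Mod X.sheaf)) :
    ∃! e : (SiteCmp.pullD (kap 𝓘 (hloc 𝓘).1)).obj ((FTors.RgammaZp X 𝓘).obj F) ≅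
        (FTors.RgammaT (completionAlong X 𝓘) (hloc 𝓘).1).obj ((SiteCmp.pullD (kap 𝓘 (hloc 𝓘).1)).obj F),
      e.hom ≫ (FTors.RgammaTε (completionAlong X 𝓘) (hloc 𝓘).1).app _ =
        (SiteCmp.pullD (kap 𝓘 (hloc 𝓘).1)).map ((FTors.RgammaZpε X 𝓘).app F) := by
  obtain ⟨ψ, hψ, h⟩ := exists_colocal 𝓘 F
  exact ⟨asIso ψ, h, fun e he => Iso.ext ((DTorsLib.comp_rgammaTε_bijective (hloc 𝓘) _ _
    (isDTorsF_pullD 𝓘 (isDTorsZp_rgammaZp 𝓘 F))).1 (he.trans h.symm))⟩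

end Adj

section Push

variable [SiteCmp.HasRpushD (kap 𝓘 (hloc 𝓘).1)]

/-- The cohomology of the derived direct image from the completion. -/
theorem exists_hModPush (G : DerivedCategory (ModF (completionAlong X 𝓘) (hloc 𝓘).1)) (n : ℤ) :
    Nonempty (SiteCmp.HMod ((SiteCmp.RpushD (kap 𝓘 (hloc 𝓘).1)).obj G) n ≅
      (kap 𝓘 (hloc 𝓘).1).push.obj (SiteCmp.HMod G n)) := by
  let R := (kap 𝓘 (hloc 𝓘).1).push
  let W := HomotopyCategory.quasiIso (ModF (completionAlong X 𝓘) (hloc 𝓘).1) (ComplexShape.up ℤ)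
  haveI := preservesFiniteColimits_push 𝓘
  haveI : R.Additive := (kap 𝓘 (hloc 𝓘).1).adj.right_adjoint_additive
  haveI : R.mapDerivedCategory.IsRightDerivedFunctor R.mapDerivedCategoryFactorsh.inv W :=
    Functor.isRightDerivedFunctor_of_inverts _ _ R.mapDerivedCategoryFactorsh
  let e := Functor.rightDerivedUnique (SiteCmp.RpushD (kap 𝓘 (hloc 𝓘).1)) R.mapDerivedCategory
    ((SiteCmp.pushKh (kap 𝓘 (hloc 𝓘).1)).totalRightDerivedUnit DerivedCategory.Qh W)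
    R.mapDerivedCategoryFactorsh.inv W
  exact ⟨(DerivedCategory.homologyFunctor (ModSite.Mod X.sheaf) n).mapIso (e.app G) ≪≫
    (DerLib.ExactHomology.homologyIso R n).app G⟩

theorem isDTorsZp_RpushD {G : DerivedCategory (ModF (completionAlong X 𝓘) (hloc 𝓘).1)}
    (hG : FTors.IsDTorsF (completionAlong X 𝓘) (hloc 𝓘).1 G) :
    FTors.IsDTorsZp X 𝓘 ((SiteCmp.RpushD (kap 𝓘 (hloc 𝓘).1)).obj G) := fun n =>
  isTorsZp_of_iso 𝓘 (exists_hModPush 𝓘 G n).some.symm (isTorsZp_push 𝓘 (hloc 𝓘).1 (hG n))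

theorem isQCoh_RpushD {G : DerivedCategory (ModF (completionAlong X 𝓘) (hloc 𝓘).1)}
    (hG : FTors.IsDQCT (completionAlong X 𝓘) (hloc 𝓘).1 G) (n : ℤ) :
    SheafOfModules.IsQuasicoherent.{u} (SiteCmp.HMod ((SiteCmp.RpushD (kap 𝓘 (hloc 𝓘).1)).obj G) n) :=
  haveI := isQCoh_push 𝓘 (hG n)
  QCohLib.isQCoh_of_iso (X := X) (exists_hModPush 𝓘 G n).some.symm

theorem isCoh_RpushD {G : DerivedCategory (ModF (completionAlong X 𝓘) (hloc 𝓘).1)}
    (hG : FTors.IsDQCT (completionAlong X 𝓘) (hloc 𝓘).1 G) (n : ℤ)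
    (hc : IsCohF (completionAlong X 𝓘) (hloc 𝓘).1 (SiteCmp.HMod G n)) :
    Coh.IsCoh (X := X) (SiteCmp.HMod ((SiteCmp.RpushD (kap 𝓘 (hloc 𝓘).1)).obj G) n) :=
  QCohLib.isCoh_of_iso (X := X) (exists_hModPush 𝓘 G n).some.symm (isCoh_push 𝓘 (hG n) hc)

variable [PreservesFiniteLimits (kap 𝓘 (hloc 𝓘).1).pull]

/-- The derived direct image is fully faithful out of complexes with torsion cohomology. -/
theorem RpushD_map_bijective (G H : DerivedCategory (ModF (completionAlong X 𝓘) (hloc 𝓘).1))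
    (hG : FTors.IsDTorsF (completionAlong X 𝓘) (hloc 𝓘).1 G) :
    Function.Bijective (fun φ : G ⟶ H => (SiteCmp.RpushD (kap 𝓘 (hloc 𝓘).1)).map φ) := by
  haveI := isIso_derCounit 𝓘 hG
  have e : (fun φ : G ⟶ H => (SiteCmp.RpushD (kap 𝓘 (hloc 𝓘).1)).map φ) =
      (derAdj 𝓘).homEquiv _ _ ∘ fun φ : G ⟶ H => (derAdj 𝓘).counit.app G ≫ φ := funext fun φ => by
    show _ = (derAdj 𝓘).homEquiv _ _ ((derAdj 𝓘).counit.app G ≫ φ)
    rw [Adjunction.homEquiv_naturality_right, Adjunction.homEquiv_unit,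
      Adjunction.right_triangle_components, Category.id_comp]
  rw [e]
  exact (Equiv.bijective _).comp (asIso ((derAdj 𝓘).counit.app G)).symm.homFromEquiv.bijective

variable [FTors.HasRgammaT (completionAlong X 𝓘) (hloc 𝓘).1]

theorem push_colocal_bijective (A : DerivedCategory (ModSite.Mod X.sheaf)) (hA : FTors.IsDTorsZp X 𝓘 A)
    (E : DerivedCategory (ModF (completionAlong X 𝓘) (hloc 𝓘).1)) :
    Function.Bijective (fun s : A ⟶ (SiteCmp.RpushD (kap 𝓘 (hloc 𝓘).1)).obj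
        ((FTors.RgammaT (completionAlong X 𝓘) (hloc 𝓘).1).obj E) =>
      s ≫ (SiteCmp.RpushD (kap 𝓘 (hloc 𝓘).1)).map ((FTors.RgammaTε (completionAlong X 𝓘) (hloc 𝓘).1).app E)) := by
  let R' := SiteCmp.RpushD (kap 𝓘 (hloc 𝓘).1)
  let D := derAdj 𝓘
  have e : (fun s : A ⟶ R'.obj ((FTors.RgammaT (completionAlong X 𝓘) (hloc 𝓘).1).obj E) =>
      s ≫ R'.map ((FTors.RgammaTε (completionAlong X 𝓘) (hloc 𝓘).1).app E)) = D.homEquiv _ _ ∘
      ((fun s => s ≫ (FTors.RgammaTε (completionAlong X 𝓘) (hloc 𝓘).1).app E) ∘ (D.homEquiv _ _).symm) :=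
    funext fun s => by
      show _ = D.homEquiv _ _ ((D.homEquiv _ _).symm s ≫ _)
      rw [D.homEquiv_naturality_right, Equiv.apply_symm_apply]
  rw [e]
  exact (Equiv.bijective _).comp ((DTorsLib.comp_rgammaTε_bijective (hloc 𝓘) _ E (isDTorsF_pullD 𝓘 hA)).comp
    (Equiv.bijective _))

variable [FTors.HasRgammaZp X 𝓘]

/-- The comparison of derived torsion with direct image, uniquely. -/
theorem existsUnique_iso_RpushD (E : DerivedCategory (ModF (completionAlong X 𝓘) (hloc 𝓘).1)) :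
    ∃! e : (FTors.RgammaZp X 𝓘).obj ((SiteCmp.RpushD (kap 𝓘 (hloc 𝓘).1)).obj E) ≅
        (SiteCmp.RpushD (kap 𝓘 (hloc 𝓘).1)).obj ((FTors.RgammaT (completionAlong X 𝓘) (hloc 𝓘).1).obj E),
      e.hom ≫ (SiteCmp.RpushD (kap 𝓘 (hloc 𝓘).1)).map ((FTors.RgammaTε (completionAlong X 𝓘) (hloc 𝓘).1).app E) =
        (FTors.RgammaZpε X 𝓘).app ((SiteCmp.RpushD (kap 𝓘 (hloc 𝓘).1)).obj E) := by
  let R' := SiteCmp.RpushD (kap 𝓘 (hloc 𝓘).1)
  let ε := (FTors.RgammaZpε X 𝓘).app (R'.obj E)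
  let ε' := R'.map ((FTors.RgammaTε (completionAlong X 𝓘) (hloc 𝓘).1).app E)
  have hS := isDTorsZp_rgammaZp 𝓘 (R'.obj E)
  have hT := isDTorsZp_RpushD 𝓘 (DTorsLib.isDTorsF_rgammaT (hloc 𝓘) E)
  have bS := fun A hA => (colocal_bijective 𝓘 A (R'.obj E) hA).1
  have bT := fun A hA => push_colocal_bijective 𝓘 A hA E
  obtain ⟨f, hf⟩ := (bT _ hS).2 ε
  obtain ⟨g, hg⟩ := (bS _ hT).2 ε'
  have hf' : f ≫ ε' = ε := hf
  have hg' : g ≫ ε = ε' := hg
  refine ⟨⟨f, g, (bS _ hS).1 ?_, (bT _ hT).1 ?_⟩, hf', fun e he => Iso.ext ((bT _ hS).1 (he.trans hf'.symm))⟩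
  · show (f ≫ g) ≫ ε = 𝟙 _ ≫ ε
    rw [Category.assoc, hg', hf', Category.id_comp]
  · show (g ≫ f) ≫ ε' = 𝟙 _ ≫ ε'
    rw [Category.assoc, hf', hg', Category.id_comp]

end Push

end CmplTorsLib
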