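import Groth.Agent.CmplTorsLib.Nhd
import Groth.Agent.FCohLib.PushCompl

/-!
# Torsion modules on a completion are power torsion modules on the scheme
-/

set_option autoImplicit false
set_option linter.unusedSectionVars false

noncomputable section

universe u

open CategoryTheory CategoryTheory.Limits TopologicalSpace Opposite AlgebraicGeometry FSch
open FModLib (MSec RSec oK mres rres)
open FComplLib (secProj)

namespace CmplTorsLib

variable {X : Scheme.{u}} [IsLocallyNoetherian X] (𝓘 : X.IdealSheafData)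
  (hX : (completionAlong X 𝓘).IsFormal)

/-- Away from the closed subset the ideal is the unit ideal. -/
theorem ideal_eq_top (D : X.affineOpens) (hD : pre 𝓘 D = ⊥) : 𝓘.ideal D = ⊤ := by
  refine PrimeSpectrum.zeroLocus_empty_iff_eq_top.mp (Set.image_eq_empty.1
    ((D.2.fromSpec_image_zeroLocus _).trans (Set.eq_empty_of_forall_notMem fun p hp => ?_)))
  have hp' : p ∈ Set.range (completionToX X 𝓘 0).base := by
    rw [show Set.range (completionToX X 𝓘 0).base = ((𝓘 ^ (0 + 1)).support : Set X) from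
      Scheme.IdealSheafData.range_subschemeι _, zero_add, pow_one]
    exact (Scheme.IdealSheafData.mem_support_iff_of_mem hp.2).2 hp.1
  obtain ⟨y, rfl⟩ := hp'
  have h : y ∈ pre 𝓘 D := hp.2
  rw [hD] at h
  exact h

/-- A power torsion section with no points on the closed subset vanishes. -/
theorem eq_zero_of_pre_bot {N : ModSite.Mod X.sheaf} (hN : FTors.IsTorsZp X 𝓘 N) {U : X.Opens} (m : MSec N U)
    (hU : pre 𝓘 U = ⊥) : m = 0 := by
  refine FCohLib.eq_zero_of_points N m fun x hx => ?_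
  obtain ⟨W, hW, n, hxW, hn⟩ := exists_kill_nhd 𝓘 hN m hx
  obtain ⟨D, hxD, hDW⟩ := exists_affine_le hxW
  refine ⟨D, hDW.trans hW, hxD, ?_⟩
  have h1 : (1 : Γ(X, D.1)) ∈ 𝓘.ideal D ^ n := by
    rw [ideal_eq_top 𝓘 D (le_bot_iff.1 ((pre_mono 𝓘 (hDW.trans hW)).trans hU.le)), Ideal.top_pow]
    trivial
  have h2 := res_mem_powIdeal 𝓘 (le_refl (D : X.Opens)) h1
  rw [res_self] at h2
  exact (one_smul _ _).symm.trans (hn D hDW 1 h2)

theorem eta_injective {N : ModSite.Mod X.sheaf} (hN : FTors.IsTorsZp X 𝓘 N) {U : X.Opens} (m : MSec N U)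
    (h : eta 𝓘 hX N m = 0) : m = 0 := by
  refine FCohLib.eq_zero_of_points N m fun x hx => ?_
  by_cases hr : x ∈ Set.range (completionToX X 𝓘 0).base
  · obtain ⟨y, rfl⟩ := hr
    have h1 := germ_inj 𝓘 hX hN y hx m ((congrArg _ h).trans (map_zero _))
    rw [← map_zero ((FlatMorLib.prs X.sheaf N).germ U _ hx).hom] at h1
    obtain ⟨W, hxW, i₁, i₂, he⟩ := (FlatMorLib.prs X.sheaf N).germ_eq _ hx hx _ _ h1
    exact ⟨W, i₁.le, hxW, he.trans (map_zero _)⟩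
  · let O : X.Opens := ⟨(Set.range (completionToX X 𝓘 0).base)ᶜ,
      (completionToX X 𝓘 0).isClosedEmbedding.isClosed_range.isOpen_compl⟩
    refine ⟨U ⊓ O, inf_le_left, ⟨hx, hr⟩, eq_zero_of_pre_bot 𝓘 hN _ (Opens.ext (Set.ext fun y => ?_))⟩
    exact ⟨fun hy => (hy.2 ⟨y, rfl⟩).elim, fun hy => hy.elim⟩

theorem exists_local_lift {N : ModSite.Mod X.sheaf} (hN : FTors.IsTorsZp X 𝓘 N) {U : X.Opens}
    (t : MSec ((kap 𝓘 hX).pull.obj N) (pre 𝓘 U)) (y : (completionAlong X 𝓘).X 0) (hy : completionToX X 𝓘 0 y ∈ U) :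
    ∃ (D : X.Opens) (hD : D ≤ U) (m : MSec N D), completionToX X 𝓘 0 y ∈ D ∧
      eta 𝓘 hX N m = mres _ (pre_mono 𝓘 hD) t := by
  obtain ⟨V, hV, m, hm⟩ := germ_surj 𝓘 hX hN y
    ((FlatMorLib.prs (Oh 𝓘 hX) ((kap 𝓘 hX).pull.obj N)).germ (pre 𝓘 U) y hy t)
  obtain ⟨W, hyW, i₁, i₂, he⟩ := (FlatMorLib.prs (Oh 𝓘 hX) ((kap 𝓘 hX).pull.obj N)).germ_eq y hV hy _ _ hm
  obtain ⟨D, hyD, hD, hDW⟩ := exists_affine_nhd 𝓘 hyW (show completionToX X 𝓘 0 y ∈ V ⊓ U from ⟨hV, hy⟩)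
  refine ⟨D, hD.trans inf_le_right, mres N (hD.trans inf_le_left) m, hyD, (eta_res 𝓘 hX N _ m).trans ?_⟩
  refine ((FModLib.mres_mres _ hDW i₁.le (eta 𝓘 hX N m)).symm.trans (congrArg (mres _ hDW) he)).trans ?_
  exact FModLib.mres_mres _ hDW i₂.le t

/-- The pullback of a power torsion module is torsion. -/
theorem isTorsF_pull {N : ModSite.Mod X.sheaf} (hN : FTors.IsTorsZp X 𝓘 N) :
    FTors.IsTorsF (completionAlong X 𝓘) hX ((kap 𝓘 hX).pull.obj N) :=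
  (IndCohLib.isTors_iff (hloc 𝓘)).2 fun V t y hy => by
    obtain ⟨U, rfl⟩ := exists_pre_eq 𝓘 V
    obtain ⟨D, hD, m, hyD, hm⟩ := exists_local_lift 𝓘 hX hN t y hy
    obtain ⟨W, hW, n, hyW, hn⟩ := exists_kill_nhd 𝓘 hN m hyD
    refine ⟨pre 𝓘 W, pre_mono 𝓘 (hW.trans hD), n, hyW, ?_⟩
    rw [← FModLib.mres_mres _ (pre_mono 𝓘 hW) (pre_mono 𝓘 hD) t, ← hm, ← eta_res 𝓘 hX N hW m]
    refine killed_eta 𝓘 hX _ fun W' h a ha => ?_
    rw [FModLib.mres_mres]
    exact hn W' h a ((FTors.powIdealFam X 𝓘).antitone' n W' ha)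

theorem eta_bijective {N : ModSite.Mod X.sheaf} (hN : FTors.IsTorsZp X 𝓘 N) (U : X.Opens) :
    Function.Bijective (eta 𝓘 hX N (U := U)) := by
  refine ⟨fun a b h => ?_, fun t => ?_⟩
  · refine sub_eq_zero.1 (eta_injective 𝓘 hX hN _ ?_)
    exact (map_sub (((kap 𝓘 hX).adj.unit.app N).val.app (op U)).hom a b).trans (sub_eq_zero.2 h)
  let O : X.Opens := ⟨(Set.range (completionToX X 𝓘 0).base)ᶜ,
    (completionToX X 𝓘 0).isClosedEmbedding.isClosed_range.isOpen_compl⟩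
  choose D hD m hxD hm using fun q : {y : (completionAlong X 𝓘).X 0 // completionToX X 𝓘 0 y ∈ U} =>
    exists_local_lift 𝓘 hX hN t q.1 q.2
  let J := Option {y : (completionAlong X 𝓘).X 0 // completionToX X 𝓘 0 y ∈ U}
  let Ui : J → X.Opens := fun j => j.elim (U ⊓ O) D
  let sf : ∀ j, MSec N (Ui j) := fun j => Option.rec (motive := fun j => MSec N (Ui j)) 0 m j
  have hUi : ∀ j, Ui j ≤ U := by rintro (_ | q) <;> [exact inf_le_left; exact hD q]
  have hbot : ∀ V : X.Opens, V ≤ O → pre 𝓘 V = ⊥ := fun V hV => Opens.ext (Set.ext fun y =>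
    ⟨fun hy => ((hV hy : completionToX X 𝓘 0 y ∈ O) ⟨y, rfl⟩).elim, fun hy => hy.elim⟩)
  have hsf : ∀ j, eta 𝓘 hX N (sf j) = mres _ (pre_mono 𝓘 (hUi j)) t := by
    rintro (_ | q)
    · exact FCohLib.eq_zero_of_points _ _ (fun y hy => ((show completionToX X 𝓘 0 y ∈ U ⊓ O from hy).2 ⟨y, rfl⟩ : False).elim) |>.trans
        (FCohLib.eq_zero_of_points _ _ (fun y hy => ((show completionToX X 𝓘 0 y ∈ U ⊓ O from hy).2 ⟨y, rfl⟩ : False).elim)).symm
    · exact hm q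
  obtain ⟨s, hs, -⟩ := TopCat.Sheaf.existsUnique_gluing'
    ((SheafOfModules.toSheaf.{u} (ModSite.ringSh X.sheaf)).obj N : TopCat.Sheaf AddCommGrpCat.{u} X)
    Ui U (fun j => homOfLE (hUi j)) (fun x hx => by
      by_cases hr : x ∈ Set.range (completionToX X 𝓘 0).base
      · obtain ⟨y, rfl⟩ := hr
        exact Opens.mem_iSup.mpr ⟨some ⟨y, hx⟩, hxD _⟩
      · exact Opens.mem_iSup.mpr ⟨none, hx, hr⟩) sf fun i j => by
    refine sub_eq_zero.1 (eta_injective 𝓘 hX hN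
      (mres N (inf_le_left : Ui i ⊓ Ui j ≤ Ui i) (sf i) - mres N (inf_le_right : Ui i ⊓ Ui j ≤ Ui j) (sf j)) ?_)
    refine (map_sub (((kap 𝓘 hX).adj.unit.app N).val.app (op (Ui i ⊓ Ui j))).hom _ _).trans (sub_eq_zero.2 ?_)
    refine (eta_res 𝓘 hX N inf_le_left (sf i)).trans (Eq.trans ?_ (eta_res 𝓘 hX N inf_le_right (sf j)).symm)
    rw [hsf, hsf, FModLib.mres_mres, FModLib.mres_mres]
  refine ⟨s, sub_eq_zero.1 (FCohLib.eq_zero_of_points _ _ fun y hy => ?_)⟩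
  refine ⟨pre 𝓘 (D ⟨y, hy⟩), pre_mono 𝓘 (hD _), hxD _, ?_⟩
  refine (map_sub _ _ _).trans (sub_eq_zero.2 ?_)
  refine (eta_res 𝓘 hX N (hD _) s).symm.trans ((congrArg (eta 𝓘 hX N) (hs (some ⟨y, hy⟩))).trans ?_)
  exact hm _

/-- The unit is an isomorphism on power torsion modules. -/
theorem isIso_unit {N : ModSite.Mod X.sheaf} (hN : FTors.IsTorsZp X 𝓘 N) :
    IsIso ((kap 𝓘 hX).adj.unit.app N) :=
  FCohLib.isIso_of_bijective_basis _ fun U _ hp => ⟨U, le_rfl, hp, eta_bijective 𝓘 hX hN U⟩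

/-- The direct image of a torsion module is power torsion. -/
theorem isTorsZp_push {M : ModF (completionAlong X 𝓘) hX} (hM : FTors.IsTorsF (completionAlong X 𝓘) hX M) :
    FTors.IsTorsZp X 𝓘 ((kap 𝓘 hX).push.obj M) := fun U (s : MSec M (pre 𝓘 U)) x hx => by
  by_cases hr : x ∈ Set.range (completionToX X 𝓘 0).base
  · obtain ⟨y, rfl⟩ := hr
    obtain ⟨W, hW, n, hyW, hn⟩ := (IndCohLib.isTors_iff (hloc 𝓘)).1 hM _ s y hx
    obtain ⟨D, hyD, hDU, hDW⟩ := exists_affine_nhd 𝓘 hyW hx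
    refine ⟨D, homOfLE hDU, ⟨n + 1, fun W' g a ha => ?_⟩, hyD⟩
    show (σ 𝓘 hX W' a • mres M (pre_mono 𝓘 g.le) (mres M (pre_mono 𝓘 hDU) s) : MSec M (pre 𝓘 W')) = 0
    rw [FModLib.mres_mres]
    have := hn (pre 𝓘 W') ((pre_mono 𝓘 g.le).trans hDW) (σ 𝓘 hX W' a)
      ((mem_powIdeal_iff 𝓘 hX n W' a).1 ha)
    rwa [FModLib.mres_mres] at this
  · let O : X.Opens := ⟨(Set.range (completionToX X 𝓘 0).base)ᶜ,
      (completionToX X 𝓘 0).isClosedEmbedding.isClosed_range.isOpen_compl⟩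
    refine ⟨U ⊓ O, homOfLE inf_le_left, ⟨0, fun W' g a _ => ?_⟩, ⟨hx, hr⟩⟩
    exact FCohLib.eq_zero_of_points M _ fun y hy => ((g.le hy).2 ⟨y, rfl⟩).elim

/-- The counit is an isomorphism on torsion modules. -/
theorem isIso_counit {M : ModF (completionAlong X 𝓘) hX} (hM : FTors.IsTorsF (completionAlong X 𝓘) hX M) :
    IsIso ((kap 𝓘 hX).adj.counit.app M) := by
  have := isIso_unit 𝓘 hX (isTorsZp_push 𝓘 hX hM)
  refine FCohLib.isIso_of_bijective_basis _ fun V y hy => ?_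
  obtain ⟨U, rfl⟩ := exists_pre_eq 𝓘 V
  refine ⟨pre 𝓘 U, le_rfl, hy, ?_⟩
  have h1 : IsIso ((kap 𝓘 hX).push.map ((kap 𝓘 hX).adj.counit.app M)) :=
    @IsIso.of_isIso_fac_left _ _ _ _ _ _ _ (𝟙 _) this inferInstance ((kap 𝓘 hX).adj.right_triangle_components M)
  exact (ConcreteCategory.isIso_iff_bijective (((kap 𝓘 hX).push.map ((kap 𝓘 hX).adj.counit.app M)).val.app (op U))).1
    (by
      have := Functor.map_isIso (SheafOfModules.forget _ ⋙ PresheafOfModules.evaluation _ (op U))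
        ((kap 𝓘 hX).push.map ((kap 𝓘 hX).adj.counit.app M))
      exact this)

end CmplTorsLib
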