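import Groth.Agent.CmplTorsLib.Funcs
import Groth.Agent.CmplTorsLib.Main
import Groth.Agent.DTorsLib.TorsEquiv

/-!
# Torsion commutes with flat pullback to a completion
-/

set_option autoImplicit false
set_option linter.unusedSectionVars false
set_option linter.style.haveILetI false
set_option maxHeartbeats 400000

noncomputable section

universe u

open CategoryTheory CategoryTheory.Limits TopologicalSpace Opposite AlgebraicGeometry FSch
open FModLib (MSec RSec oK mres rres)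

namespace CmplTorsLib

variable {X : Scheme.{u}} [IsLocallyNoetherian X] (𝓘 : X.IdealSheafData)

theorem preservesFiniteLimits_pull : PreservesFiniteLimits (kap 𝓘 (hloc 𝓘).1).pull :=
  FlatMorLib.isFlat_ofFlat (completionToX X 𝓘 0).base (Oh 𝓘 (hloc 𝓘).1) X.sheaf (FComplLib.sharpC 𝓘 (hloc 𝓘).1)
    (FComplLib.flat_stalkHom 𝓘 (hloc 𝓘).1)

theorem isTorsZp_gammaZp (M : ModSite.Mod X.sheaf) : FTors.IsTorsZp X 𝓘 ((FTors.gammaZp X 𝓘).obj M) :=
  fun _ s _ hp => by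
    obtain ⟨W, g, ⟨n, hn⟩, hpW⟩ := s.2 _ hp
    exact ⟨W, g, ⟨n, fun W' k a ha => Subtype.ext (hn k a ha)⟩, hpW⟩

/-- The comparison of torsion with pullback on one module. -/
def compTorsApp (M : ModSite.Mod X.sheaf) :
    (kap 𝓘 (hloc 𝓘).1).pull.obj ((FTors.gammaZp X 𝓘).obj M) ⟶
      (FTors.gammaT (completionAlong X 𝓘) (hloc 𝓘).1).obj ((kap 𝓘 (hloc 𝓘).1).pull.obj M) :=
  @inv _ _ _ _ ((FTors.gammaTι (completionAlong X 𝓘) (hloc 𝓘).1).app
      ((kap 𝓘 (hloc 𝓘).1).pull.obj ((FTors.gammaZp X 𝓘).obj M)))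
      (DTorsLib.isIso_gammaTι_app (hloc 𝓘) (isTorsF_pull 𝓘 (hloc 𝓘).1 (isTorsZp_gammaZp 𝓘 M))) ≫
      (FTors.gammaT (completionAlong X 𝓘) (hloc 𝓘).1).map
        ((kap 𝓘 (hloc 𝓘).1).pull.map ((FTors.gammaZpι X 𝓘).app M))

theorem compTorsApp_ι (M : ModSite.Mod X.sheaf) :
    compTorsApp 𝓘 M ≫ (FTors.gammaTι (completionAlong X 𝓘) (hloc 𝓘).1).app ((kap 𝓘 (hloc 𝓘).1).pull.obj M) =
      (kap 𝓘 (hloc 𝓘).1).pull.map ((FTors.gammaZpι X 𝓘).app M) := by
  haveI := DTorsLib.isIso_gammaTι_app (hloc 𝓘) (isTorsF_pull 𝓘 (hloc 𝓘).1 (isTorsZp_gammaZp 𝓘 M))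
  refine (Category.assoc _ _ _).trans ?_
  refine (congrArg (fun q => _ ≫ q) ((FTors.gammaTι (completionAlong X 𝓘) (hloc 𝓘).1).naturality _)).trans ?_
  exact IsIso.inv_hom_id_assoc _ _

/-- The comparison of torsion with pullback. -/
def compTors : FTors.gammaZp X 𝓘 ⋙ (kap 𝓘 (hloc 𝓘).1).pull ⟶
    (kap 𝓘 (hloc 𝓘).1).pull ⋙ FTors.gammaT (completionAlong X 𝓘) (hloc 𝓘).1 where
  app := compTorsApp 𝓘
  naturality M N f := by
    let L := (kap 𝓘 (hloc 𝓘).1).pull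
    let ι' := FTors.gammaTι (completionAlong X 𝓘) (hloc 𝓘).1
    haveI := DTorsLib.mono_gammaTι (hloc 𝓘) (L.obj N)
    refine (cancel_mono (ι'.app (L.obj N))).1 ?_
    refine (Category.assoc _ _ _).trans ((congrArg (fun q => L.map ((FTors.gammaZp X 𝓘).map f) ≫ q)
      (compTorsApp_ι 𝓘 N)).trans ?_)
    refine (L.map_comp _ _).symm.trans ((congrArg L.map ((FTors.gammaZpι X 𝓘).naturality f)).trans ?_)
    refine (L.map_comp _ _).trans ((congrArg (fun q => q ≫ L.map f) (compTorsApp_ι 𝓘 M)).symm.trans ?_)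
    exact ((Category.assoc _ _ _).trans (congrArg (fun q => compTorsApp 𝓘 M ≫ q) (ι'.naturality (L.map f)).symm)).trans
      (Category.assoc _ _ _).symm

theorem compTors_ι (M : ModSite.Mod X.sheaf) :
    (compTors 𝓘).app M ≫ (FTors.gammaTι (completionAlong X 𝓘) (hloc 𝓘).1).app ((kap 𝓘 (hloc 𝓘).1).pull.obj M) =
      (kap 𝓘 (hloc 𝓘).1).pull.map ((FTors.gammaZpι X 𝓘).app M) :=
  compTorsApp_ι 𝓘 M

theorem isTorsSect_of_killed {M : ModSite.Mod X.sheaf} {D : X.affineOpens} {U : X.Opens} (hU : U ≤ D.1) (n : ℕ)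
    (m : MSec M U) (hm : ∀ a ∈ 𝓘.ideal D ^ n, (rres X.sheaf hU a • m : MSec M U) = 0) :
    FTors.IsTorsSect (FTors.powIdealFam X 𝓘) M m :=
  FTors.IsTorsSect.of_killedBy (n := n) fun W g b hb => powIdeal_le_span 𝓘 (g.le.trans hU) n b hb _ fun a ha => by
    refine Eq.trans ?_ ((congrArg (mres M g.le) (hm a ha)).trans (map_zero _))
    refine Eq.trans ?_ (PresheafOfModules.map_smul M.val (homOfLE g.le).op _ m).symm
    exact congrArg (fun q : RSec X.sheaf W => (q • mres M g.le m : MSec M W))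
      (FModLib.rres_rres (O := X.sheaf) g.le hU a).symm

/-- **Torsion commutes with pullback to the completion.** -/
theorem isIso_compTors : IsIso (compTors 𝓘) := by
  rw [NatTrans.isIso_iff_isIso_app]
  intro M
  haveI := preservesFiniteLimits_pull 𝓘
  let L := (kap 𝓘 (hloc 𝓘).1).pull
  let ι' := FTors.gammaTι (completionAlong X 𝓘) (hloc 𝓘).1
  haveI := DTorsLib.mono_gammaTι (hloc 𝓘) (L.obj M)
  haveI : Mono ((FTors.gammaZpι X 𝓘).app M) :=
    _root_.ModSiteLib.mono_of_injective_ap _ fun _ _ _ hab => Subtype.ext hab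
  haveI : Mono (L.map ((FTors.gammaZpι X 𝓘).app M)) := inferInstance
  haveI : Mono ((compTors 𝓘).app M ≫ ι'.app (L.obj M)) := by rw [compTors_ι]; infer_instance
  haveI : Mono ((compTors 𝓘).app M) := mono_of_mono _ (ι'.app (L.obj M))
  haveI : Epi ((compTors 𝓘).app M) := DTorsLib.epi_of_loc_surjective (hloc 𝓘) _ fun V s y hy => by
    let O := (completionAlong X 𝓘).Osh (hloc 𝓘).1
    obtain ⟨W₁, h₁, n, hy₁, hn⟩ := (IndCohLib.tors_iff (hloc 𝓘) _).1 s.2 y hy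
    obtain ⟨D, hyD, -, hDW⟩ := exists_affine_nhd 𝓘 hy₁ (show completionToX X 𝓘 0 y ∈ (⊤ : X.Opens) from trivial)
    have hN : IsNoetherianRing Γ(X, D.1) := IsLocallyNoetherian.component_noetherian D
    obtain ⟨r, t, ht⟩ := Submodule.fg_iff_exists_fin_generating_family.1
      (IsNoetherian.noetherian (𝓘.ideal D ^ (n + 1)))
    obtain ⟨U, hU, hUW, k, c, m, hyU, hm, hs⟩ := exists_local_killed 𝓘 (hloc 𝓘).1 M D
      (fun l : ULift.{u} (Fin r) => t l.down) (le_refl _) (mres (L.obj M) hDW (mres (L.obj M) h₁ s.1)) (fun l => by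
        refine Eq.trans ?_ (hn (pre 𝓘 D) hDW _ ((proj_eq_zero_iff 𝓘 (hloc 𝓘).1 n D _).2
          (Ideal.mem_map_of_mem _ (show t l.down ∈ 𝓘.ideal D ^ (n + 1) from ht ▸ Submodule.subset_span ⟨_, rfl⟩))))
        exact congrArg (fun q : RSec O (pre 𝓘 D) => (q • _ : MSec (L.obj M) (pre 𝓘 D)))
          (IndCohLib.rres_self _)) hyD
    let mh : Fin k → MSec ((FTors.gammaZp X 𝓘).obj M) U := fun j => ⟨m j, isTorsSect_of_killed 𝓘 hU (n + 1) (m j)
      fun a ha => by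
        suffices h : 𝓘.ideal D ^ (n + 1) ≤ Ideal.comap
            (show Γ(X, D.1) →+* RSec X.sheaf U from (X.presheaf.map (homOfLE hU).op).hom)
            (LinearMap.ker (LinearMap.toSpanSingleton (RSec X.sheaf U) (MSec M U) (m j))) from h ha
        rw [← ht, Submodule.span_le]
        rintro _ ⟨l, rfl⟩
        exact hm j ⟨l⟩⟩
    let z : MSec (L.obj ((FTors.gammaZp X 𝓘).obj M)) (pre 𝓘 U) :=
      ∑ j, (c j • eta 𝓘 (hloc 𝓘).1 ((FTors.gammaZp X 𝓘).obj M) (mh j) :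
        MSec (L.obj ((FTors.gammaZp X 𝓘).obj M)) (pre 𝓘 U))
    refine ⟨pre 𝓘 U, hUW.trans (hDW.trans h₁), z, hyU, IndCohLib.inj_of_mono (hloc 𝓘) (ι'.app (L.obj M)) ?_⟩
    refine (IndCohLib.app_comp (hloc 𝓘) _ _ _ (compTors_ι 𝓘 M) z).trans (Eq.trans ?_
      (IndCohLib.app_mres (hloc 𝓘) (ι'.app (L.obj M)) (hUW.trans (hDW.trans h₁)) s).symm)
    show _ = mres (L.obj M) (hUW.trans (hDW.trans h₁)) s.1
    rw [← FModLib.mres_mres (L.obj M) hUW (hDW.trans h₁) s.1, ← FModLib.mres_mres (L.obj M) hDW h₁ s.1, hs]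
    refine (map_sum ((L.map ((FTors.gammaZpι X 𝓘).app M)).val.app (op (pre 𝓘 U))).hom _ _).trans
      (Finset.sum_congr rfl fun j _ => ?_)
    refine (((L.map ((FTors.gammaZpι X 𝓘).app M)).val.app (op (pre 𝓘 U))).hom.map_smul (c j) _).trans ?_
    refine congrArg (fun q : MSec (L.obj M) (pre 𝓘 U) => (c j • q : MSec (L.obj M) (pre 𝓘 U))) ?_
    exact congr(($((kap 𝓘 (hloc 𝓘).1).adj.unit.naturality ((FTors.gammaZpι X 𝓘).app M))).val.app (op U) (mh j)).symm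
  exact isIso_of_mono_of_epi _

end CmplTorsLib
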