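import Groth.Agent.CmplTorsLib.Basic
import Groth.Agent.FlatMorLib.Pull

/-!
# Stalks of pullbacks to a completion
-/

set_option autoImplicit false
set_option linter.unusedSectionVars false

noncomputable section

universe u

open CategoryTheory CategoryTheory.Limits TopologicalSpace Opposite AlgebraicGeometry FSch
open FModLib (MSec RSec oK mres rres)

namespace CmplTorsLib

variable {X : Scheme.{u}} [IsLocallyNoetherian X] (𝓘 : X.IdealSheafData)
  (hX : (completionAlong X 𝓘).IsFormal)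

/-- The structure sheaf of the completion on its space. -/
abbrev Oh : TopCat.Sheaf CommRingCat.{u} ((completionAlong X 𝓘).X 0).toTopCat := (completionAlong X 𝓘).Osh hX

/-- The stalk map of the completion morphism. -/
abbrev sH (y : (completionAlong X 𝓘).X 0) :
    X.presheaf.stalk (completionToX X 𝓘 0 y) ⟶ (Oh 𝓘 hX).presheaf.stalk y :=
  FlatMorLib.stalkHom (completionToX X 𝓘 0).base (Oh 𝓘 hX) X.sheaf (FComplLib.sharpC 𝓘 hX) y

theorem sH_germ (y : (completionAlong X 𝓘).X 0) {U : X.Opens} (hy : completionToX X 𝓘 0 y ∈ U) (a : Γ(X, U)) :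
    sH 𝓘 hX y (X.presheaf.germ U _ hy a) = (Oh 𝓘 hX).presheaf.germ (pre 𝓘 U) y hy (σ 𝓘 hX U a) :=
  FlatMorLib.stalkHom_germ (completionToX X 𝓘 0).base (Oh 𝓘 hX) X.sheaf (FComplLib.sharpC 𝓘 hX) y U hy a

variable (N : ModSite.Mod X.sheaf)

/-- The image of a section in the pullback. -/
def eta {U : X.Opens} (m : MSec N U) : MSec ((kap 𝓘 hX).pull.obj N) (pre 𝓘 U) :=
  ((kap 𝓘 hX).adj.unit.app N).val.app (op U) m

theorem eta_res {U V : X.Opens} (h : V ≤ U) (m : MSec N U) :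
    eta 𝓘 hX N (mres N h m) = mres _ (pre_mono 𝓘 h) (eta 𝓘 hX N m) :=
  PresheafOfModules.naturality_apply ((kap 𝓘 hX).adj.unit.app N).val (homOfLE h).op m

theorem eta_smul {U : X.Opens} (a : RSec X.sheaf U) (m : MSec N U) :
    eta 𝓘 hX N (a • m : MSec N U) =
      (σ 𝓘 hX U a • eta 𝓘 hX N m : MSec ((kap 𝓘 hX).pull.obj N) (pre 𝓘 U)) :=
  (((kap 𝓘 hX).adj.unit.app N).val.app (op U)).hom.map_smul a m

/-- Maps out of the stalk of the pullback. -/
theorem exists_stalk_hom (y : (completionAlong X 𝓘).X 0) (A : ModuleCat.{u} ((Oh 𝓘 hX).presheaf.stalk y))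
    (g : (FlatMorLib.stalk X.sheaf (completionToX X 𝓘 0 y)).obj N ⟶
      (ModuleCat.restrictScalars (sH 𝓘 hX y).hom).obj A) :
    ∃ h : (FlatMorLib.stalk (Oh 𝓘 hX) y).obj ((kap 𝓘 hX).pull.obj N) ⟶ A,
      ∀ (U : X.Opens) (hy : completionToX X 𝓘 0 y ∈ U) (m : MSec N U),
        (show A from h.hom ((FlatMorLib.prs (Oh 𝓘 hX) ((kap 𝓘 hX).pull.obj N)).germ (pre 𝓘 U) y hy
          (eta 𝓘 hX N m))) = g.hom ((FlatMorLib.prs X.sheaf N).germ U _ hy m) := by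
  let f := (completionToX X 𝓘 0).base
  let ψ : N ⟶ (kap 𝓘 hX).push.obj (FlatMorLib.skyObj (Oh 𝓘 hX) y A) :=
    FlatMorLib.skyLift X.sheaf (f y) g ≫
      FlatMorLib.pushSkyInv f (Oh 𝓘 hX) X.sheaf (FComplLib.sharpC 𝓘 hX) y A
  let ψ' := ((kap 𝓘 hX).adj.homEquiv N (FlatMorLib.skyObj (Oh 𝓘 hX) y A)).symm ψ
  have hψ : (kap 𝓘 hX).adj.unit.app N ≫ (kap 𝓘 hX).push.map ψ' = ψ :=
    ((kap 𝓘 hX).adj.homEquiv_unit _ _ ψ').symm.trans (Equiv.apply_symm_apply _ ψ)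
  refine ⟨(FlatMorLib.stalk (Oh 𝓘 hX) y).map ψ' ≫ FlatMorLib.skyCounit (Oh 𝓘 hX) y A, fun U hy m => ?_⟩
  refine (congrArg (FlatMorLib.skyCounit (Oh 𝓘 hX) y A).hom
    (FlatMorLib.stalk_germ (Oh 𝓘 hX) y ψ' (U := pre 𝓘 U) hy (eta 𝓘 hX N m))).trans ?_
  refine (FlatMorLib.skyCounit_germ (Oh 𝓘 hX) y A hy _).trans ?_
  exact congrArg (FlatMorLib.skyVal (Oh 𝓘 hX) y (A := A) (U := pre 𝓘 U) hy)
    (congr(($hψ).val.app (op U) m))

/-- The stalk of the pullback is spanned by the images of sections. -/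
theorem stalk_span (y : (completionAlong X 𝓘).X 0) :
    Submodule.span ((Oh 𝓘 hX).presheaf.stalk y)
      {t : (FlatMorLib.stalk (Oh 𝓘 hX) y).obj ((kap 𝓘 hX).pull.obj N) |
        ∃ (U : X.Opens) (hy : completionToX X 𝓘 0 y ∈ U) (m : MSec N U),
          (FlatMorLib.prs (Oh 𝓘 hX) ((kap 𝓘 hX).pull.obj N)).germ (pre 𝓘 U) y hy (eta 𝓘 hX N m) = t} = ⊤ := by
  let O := Oh 𝓘 hX
  let P := (kap 𝓘 hX).pull.obj N
  let S := Submodule.span (O.presheaf.stalk y) {t : (FlatMorLib.stalk O y).obj P |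
    ∃ (U : X.Opens) (hy : completionToX X 𝓘 0 y ∈ U) (m : MSec N U),
      (FlatMorLib.prs O P).germ (pre 𝓘 U) y hy (eta 𝓘 hX N m) = t}
  let A : ModuleCat.{u} (O.presheaf.stalk y) := ModuleCat.of _ ((FlatMorLib.stalk O y).obj P ⧸ S)
  let q : (FlatMorLib.stalk O y).obj P ⟶ A := ModuleCat.ofHom S.mkQ
  have h0 : (kap 𝓘 hX).adj.unit.app N ≫ (kap 𝓘 hX).push.map (FlatMorLib.skyLift O y q) =
      (kap 𝓘 hX).adj.unit.app N ≫ (kap 𝓘 hX).push.map (FlatMorLib.skyLift O y (0 : _ ⟶ A)) := by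
    apply SheafOfModules.hom_ext
    apply PresheafOfModules.hom_ext
    intro U
    ext m
    refine FlatMorLib.skyObj_ext O y A _ _ fun hy => ?_
    show S.mkQ ((FlatMorLib.prs O P).germ (pre 𝓘 U.unop) y hy (eta 𝓘 hX N m)) = 0
    exact (Submodule.Quotient.mk_eq_zero S).2 (Submodule.subset_span ⟨U.unop, hy, m, rfl⟩)
  have h1 : FlatMorLib.skyLift O y q = FlatMorLib.skyLift O y (0 : _ ⟶ A) :=
    ((kap 𝓘 hX).adj.homEquiv N _).injective
      (((kap 𝓘 hX).adj.homEquiv_unit _ _ _).trans (h0.trans ((kap 𝓘 hX).adj.homEquiv_unit _ _ _).symm))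
  have h2 : q = 0 := (FlatMorLib.skyHomEquiv O y P A).injective h1
  refine eq_top_iff.mpr fun t _ => (Submodule.Quotient.mk_eq_zero S).1 ?_
  exact congr(($h2).hom t)

end CmplTorsLib
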